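import Cfsg.Agent.Lib.Classical.FormBasic

/-!
# Orthogonal decompositions: components
-/

set_option autoImplicit false
set_option linter.unusedSectionVars false

open Module

namespace CfsgLib.Classical.OrthDecompMax

variable {F : Type*} [Field F] {V : Type*} [AddCommGroup V] [Module F V] [FiniteDimensional F V]

/-- An orthogonal decomposition into non-degenerate subspaces of equal dimension. -/
structure MemberDecomp (B : V →ₗ[F] V →ₗ[F] F) {t : ℕ} (D : Fin t → Submodule F V) (k : ℕ) : Prop where
  nondeg : ∀ i, NondegOn B (D i)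
  orth : ∀ i j, i ≠ j → ∀ u ∈ D i, ∀ v ∈ D j, B u v = 0
  top : iSup D = ⊤
  dim : ∀ i, finrank F (D i) = k

variable {B : V →ₗ[F] V →ₗ[F] F} {t k : ℕ} {D : Fin t → Submodule F V}

namespace MemberDecomp

/-- The component in `D i`. -/
noncomputable def comp (h : MemberDecomp B D k) (i : Fin t) : V →ₗ[F] V :=
  (D i).subtype ∘ₗ (D i).projectionOnto (perp B (D i)) (h.nondeg i).isCompl

theorem comp_mem (h : MemberDecomp B D k) (i : Fin t) (v : V) : h.comp i v ∈ D i :=
  Subtype.prop _

theorem comp_self (h : MemberDecomp B D k) {i : Fin t} {v : V} (hv : v ∈ D i) : h.comp i v = v := by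
  rw [comp, LinearMap.comp_apply, Submodule.projectionOnto_apply_of_mem_left _ hv]; rfl

theorem comp_other (h : MemberDecomp B D k) {i j : Fin t} (hij : i ≠ j) {v : V} (hv : v ∈ D j) :
    h.comp i v = 0 := by
  rw [comp, LinearMap.comp_apply, (Submodule.projectionOnto_apply_eq_zero_iff (h.nondeg i).isCompl).2
    (mem_perp.2 fun w hw => h.orth i j hij w hw v hv)]
  rfl

theorem comp_comp (h : MemberDecomp B D k) (i j : Fin t) (v : V) :
    h.comp i (h.comp j v) = if i = j then h.comp j v else 0 := by
  split_ifs with hij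
  · subst hij; exact h.comp_self (h.comp_mem i v)
  · exact h.comp_other hij (h.comp_mem j v)

theorem sum_comp (h : MemberDecomp B D k) (v : V) : ∑ i, h.comp i v = v := by
  refine Submodule.iSup_induction D (motive := fun v => ∑ i, h.comp i v = v) (h.top ▸ Submodule.mem_top (x := v)) ?_ ?_ ?_
  · intro j x hx
    rw [Finset.sum_eq_single j (fun i _ hij => h.comp_other hij hx) (by simp)]
    exact h.comp_self hx
  · simp
  · intro x y hx hy
    simp only [map_add, Finset.sum_add_distrib, hx, hy]

theorem form_eq (h : MemberDecomp B D k) (x y : V) : B x y = ∑ i, B (h.comp i x) (h.comp i y) := by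
  conv_lhs => rw [← h.sum_comp x, ← h.sum_comp y]
  simp only [map_sum, LinearMap.sum_apply]
  refine Finset.sum_congr rfl fun i _ => ?_
  rw [Finset.sum_eq_single i
    (fun j _ hji => h.orth j i hji _ (h.comp_mem j x) _ (h.comp_mem i y)) (by simp)]

theorem ext_comp (h : MemberDecomp B D k) {x y : V} (e : ∀ i, h.comp i x = h.comp i y) : x = y := by
  rw [← h.sum_comp x, ← h.sum_comp y]
  exact Finset.sum_congr rfl fun i _ => e i

end MemberDecomp

end CfsgLib.Classical.OrthDecompMax
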