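import Cfsg.Agent.Lib.Classical.OrthMaxTS
import Cfsg.Agent.Lib.Classical.OrthMaxND
import Cfsg.Agent.Lib.Classical.OrthDecompMax.Decomp
import Cfsg.Agent.Lib.Classical.SimMaxBasic

/-!
# Orthogonal decompositions, overgroups of their stabilisers: one member
-/

set_option autoImplicit false
set_option linter.unusedSectionVars false

namespace CfsgLib.Classical.OrthDecompMax

open Module QuadraticMap CfsgLib.Orth CfsgLib.Classical

variable {F V : Type*} [Field F] [Fintype F] [AddCommGroup V] [Module F V] [FiniteDimensional F V]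
  {Q : QuadraticForm F V} {t k : ℕ} {D : Fin t → Submodule F V} {M : Subgroup (orthGroup Q)}

/-- `M` has the Siegel elements at `d` with parameters in the line of `u`. -/
def Pair (M : Subgroup (orthGroup Q)) (d u : V) : Prop :=
  Q d = 0 ∧ polar Q d u = 0 ∧ ∀ c : F, SiegelIn M d (c • u)

/-- An overgroup of the stabiliser of an orthogonal decomposition. -/
structure Setting (Q : QuadraticForm F V) (D : Fin t → Submodule F V) (k : ℕ) (M : Subgroup (orthGroup Q)) :
    Prop where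
  two : (2 : F) ≠ 0
  nondeg : (QuadraticMap.polarBilin Q).Nondegenerate
  dec : MemberDecomp (QuadraticMap.polarBilin Q) D k
  size : (k = 3 ∧ 5 ≤ Fintype.card F) ∨ 5 ≤ k
  three : 3 ≤ t
  block : ∀ i, ∀ d ∈ D i, ∀ u ∈ D i, SiegelIn M d u
  cyc : ∀ i j l, i ≠ j → j ≠ l → i ≠ l → ∃ e ∈ M, (∀ x ∈ D i, e.1 x ∈ D j) ∧ (∀ x ∈ D j, e.1 x ∈ D l) ∧
    (∀ x ∈ D l, e.1 x ∈ D i) ∧ ∀ m, m ≠ i → m ≠ j → m ≠ l → ∀ x ∈ D m, e.1 x = x
/-- Any two members are exchanged by an element fixing the others. -/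
def SwapIn (D : Fin t → Submodule F V) (M : Subgroup (orthGroup Q)) : Prop :=
  ∀ i j, i ≠ j → ∃ e ∈ M, (∀ x ∈ D i, e.1 x ∈ D j) ∧ ∀ m, m ≠ i → m ≠ j → ∀ x ∈ D m, e.1 x = x

/-- An element of `M` living on one member. -/
def Act (D : Fin t → Submodule F V) (M : Subgroup (orthGroup Q)) (i : Fin t) (s : orthGroup Q) : Prop :=
  s ∈ M ∧ (∀ x ∈ D i, s.1 x ∈ D i) ∧ ∀ x, (∀ y ∈ D i, polar Q y x = 0) → s.1 x = x

theorem Act.mul {i : Fin t} {s s' : orthGroup Q} (h : Act D M i s) (h' : Act D M i s') : Act D M i (s * s') :=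
  ⟨mul_mem h.1 h'.1, fun x hx => h.2.1 _ (h'.2.1 x hx), fun x hx => by
    show s.1 (s'.1 x) = x
    rw [h'.2.2 x hx, h.2.2 x hx]⟩

theorem Act.inv {i : Fin t} {s : orthGroup Q} (h : Act D M i s) : Act D M i s⁻¹ := by
  refine ⟨inv_mem h.1, fun x hx => ?_, fun x hx => s.1.symm_apply_eq.2 (h.2.2 x hx).symm⟩
  have hle : (D i).map (s.1 : V →ₗ[F] V) ≤ D i := by rintro _ ⟨y, hy, rfl⟩; exact h.2.1 y hy
  obtain ⟨y, hy, rfl⟩ := (Submodule.eq_of_le_of_finrank_eq hle (LinearEquiv.finrank_map_eq s.1 _)).ge hx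
  show s.1.symm (s.1 y) ∈ D i
  rwa [s.1.symm_apply_apply]

theorem Pair.map {d u : V} (h : Pair M d u) {g : orthGroup Q} (hg : g ∈ M) : Pair M (g.1 d) (g.1 u) :=
  ⟨(apply_quad g d).trans h.1, (polar_isom g d u).trans h.2.1, fun c => by
    rw [← g.1.map_smul]; exact SiegelIn.conj (h.2.2 c) hg⟩

theorem pair_self {d : V} (hd : Q d = 0) (a : F) : Pair M d (a • d) :=
  ⟨hd, by rw [polar_smul_r', polar_self', hd, mul_zero, mul_zero],
    fun c => by rw [smul_smul]; exact siegelIn_smul_self M hd _⟩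

theorem Pair.smul {d u : V} (h : Pair M d u) (a : F) : Pair M d (a • u) :=
  ⟨h.1, by rw [polar_smul_r', h.2.1, mul_zero], fun c => by rw [smul_smul]; exact h.2.2 _⟩

theorem Pair.of_smul_left {d u : V} {c : F} (hc : c ≠ 0) (h : Pair M (c • d) u) : Pair M d u := by
  obtain ⟨h1, h2, h3⟩ := h
  rw [quad_smul', mul_eq_zero] at h1
  rw [polar_smul_l', mul_eq_zero] at h2
  refine ⟨h1.resolve_left (mul_ne_zero hc hc), h2.resolve_left hc, fun a g hg => h3 (a / c) g ?_⟩
  have e : c⁻¹ • c • d = d := inv_smul_smul₀ hc d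
  rw [← e] at hg
  have h5 := hg.of_smul (inv_ne_zero hc)
  rwa [smul_smul, inv_mul_eq_div] at h5

theorem comp_polar (h : MemberDecomp (QuadraticMap.polarBilin Q) D k) {i : Fin t} {y : V} (hy : y ∈ D i) (x : V) :
    polar Q y (h.comp i x) = polar Q y x := by
  have e := h.form_eq y x
  rw [Finset.sum_eq_single i (fun j _ hj => by rw [h.comp_other hj hy]; simp) (by simp), h.comp_self hy] at e
  exact e.symm

theorem orth_polar (h : MemberDecomp (QuadraticMap.polarBilin Q) D k) {i j : Fin t} (hij : i ≠ j) {x y : V}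
    (hx : x ∈ D i) (hy : y ∈ D j) : polar Q x y = 0 := h.orth i j hij x hx y hy

theorem eq_zero_of_perp (h : MemberDecomp (QuadraticMap.polarBilin Q) D k) {i : Fin t} {x : V} (hx : x ∈ D i)
    (hp : ∀ y ∈ D i, polar Q y x = 0) : x = 0 := nondegOn_iff.1 (h.nondeg i) x hx hp

theorem Act.apply_comp {i : Fin t} {s : orthGroup Q} (hs : Act D M i s)
    (h : MemberDecomp (QuadraticMap.polarBilin Q) D k) (x : V) : s.1 x = x + (s.1 (h.comp i x) - h.comp i x) := by
  have h1 := hs.2.2 (x - h.comp i x) fun y hy => by rw [polar_sub_right, comp_polar h hy, sub_self]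
  rw [map_sub, sub_eq_iff_eq_add] at h1
  rw [h1]; abel

variable (h : Setting Q D k M)
include h

theorem Setting.k_three : 3 ≤ k := by rcases h.size with ⟨rfl, -⟩ | h5 <;> omega

theorem Setting.add {d u v : V} (hu : Pair M d u) (hv : Pair M d v) : Pair M d (u + v) :=
  ⟨hu.1, by rw [polar_add_right, hu.2.1, hv.2.1, add_zero], fun c => by
    rw [smul_add]
    exact SiegelIn.add h.nondeg hu.1 (by rw [polar_smul_r', hu.2.1, mul_zero])
      (by rw [polar_smul_r', hv.2.1, mul_zero]) (hu.2.2 c) (hv.2.2 c)⟩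

theorem Setting.sub {d u v : V} (hu : Pair M d u) (hv : Pair M d v) : Pair M d (u - v) := by
  rw [sub_eq_add_neg, ← neg_one_smul F v]
  exact h.add hu (hv.smul _)

theorem Setting.swap {d u : V} (hu : Pair M d u) (hQu : Q u = 0) : Pair M u d := by
  refine ⟨hQu, by rw [polar_comm]; exact hu.2.1, fun c => ?_⟩
  rcases eq_or_ne c 0 with rfl | hc
  · rw [zero_smul, ← zero_smul F u]; exact siegelIn_smul_self M hQu 0
  intro g hg
  have hcu : Q ((-c) • u) = 0 := by rw [quad_smul', hQu, mul_zero]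
  obtain ⟨s, hs⟩ := exists_isSiegel h.nondeg hu.1
    (show polar Q d ((-c) • u) = 0 by rw [polar_smul_r', hu.2.1, mul_zero])
  have h1 := (IsSiegel.swap hcu hs).of_smul (neg_ne_zero.2 hc)
  rw [neg_smul_neg] at h1
  rw [hg.unique h1]
  exact hu.2.2 _ s hs

theorem Setting.pair_block {i : Fin t} {d u : V} (hd : d ∈ D i) (hQd : Q d = 0) (hu : u ∈ D i)
    (hdu : polar Q d u = 0) : Pair M d u :=
  ⟨hQd, hdu, fun c => h.block i d hd _ ((D i).smul_mem c hu)⟩

/-- A Siegel element on one member. -/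
theorem Setting.exists_act {i : Fin t} {d u : V} (hd : d ∈ D i) (hQd : Q d = 0) (hu : u ∈ D i)
    (hdu : polar Q d u = 0) :
    ∃ s, Act D M i s ∧ IsSiegel s d u ∧
      ∀ x, s.1 x = x + polar Q d x • u + (-(polar Q u x) - Q u * polar Q d x) • d := by
  obtain ⟨s, hs⟩ := exists_isSiegel h.nondeg hQd hdu
  refine ⟨s, ⟨h.block i d hd u hu s hs, fun x hx => ?_, fun x hx => hs.fix (hx d hd) (hx u hu)⟩, hs, hs.2.2⟩
  rw [hs.2.2]
  exact (D i).add_mem ((D i).add_mem hx ((D i).smul_mem _ hu)) ((D i).smul_mem _ hd)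

theorem Setting.exists_singular (i : Fin t) : ∃ d ∈ D i, d ≠ 0 ∧ Q d = 0 :=
  SimMax.exists_singular_of_three h.two (by rw [h.dec.dim]; exact h.k_three)

theorem Setting.exists_polar_ne {i : Fin t} {d : V} (hd : d ∈ D i) (hd0 : d ≠ 0) :
    ∃ y ∈ D i, polar Q d y ≠ 0 := by
  by_contra hc
  push Not at hc
  exact hd0 (eq_zero_of_perp h.dec hd fun y hy => by rw [polar_comm]; exact hc y hy)

theorem Setting.exists_partner {i : Fin t} {d : V} (hd : d ∈ D i) (hd0 : d ≠ 0) (hQd : Q d = 0) :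
    ∃ f ∈ D i, polar Q d f = 1 ∧ Q f = 0 := by
  obtain ⟨y, hy, hdy⟩ := h.exists_polar_ne hd hd0
  set z := (polar Q d y)⁻¹ • y with hz
  have hdz : polar Q d z = 1 := by rw [hz, polar_smul_r', inv_mul_cancel₀ hdy]
  refine ⟨z + (-Q z) • d, (D i).add_mem ((D i).smul_mem _ hy) ((D i).smul_mem _ hd), ?_, ?_⟩
  · rw [polar_add_right, hdz, polar_smul_r', polar_self', hQd]; ring
  · rw [quad_add', quad_smul' _ (-Q z) d, hQd, polar_smul_r', polar_comm, hdz]; ring

omit h in
theorem finrank_inf_ker (U : Submodule F V) (χ : V →ₗ[F] F) :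
    finrank F U ≤ finrank F (U ⊓ LinearMap.ker χ : Submodule F V) + 1 := by
  have h1 := (χ.domRestrict U).finrank_range_add_finrank_ker
  have h2 : finrank F (LinearMap.range (χ.domRestrict U)) ≤ 1 := by
    simpa using Submodule.finrank_le (LinearMap.range (χ.domRestrict U))
  have h3 : finrank F (LinearMap.ker (χ.domRestrict U)) ≤ finrank F (U ⊓ LinearMap.ker χ : Submodule F V) := by
    rw [← LinearEquiv.finrank_eq (Submodule.equivMapOfInjective U.subtype U.injective_subtype _).symm]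
    refine Submodule.finrank_mono ?_
    rintro _ ⟨u, hu, rfl⟩
    exact ⟨u.2, hu⟩
  omega

/-- A non-singular vector of a member orthogonal to a hyperbolic pair. -/
theorem Setting.exists_aniso {i : Fin t} {d f : V} (hd : d ∈ D i) (hf : f ∈ D i) (hQd : Q d = 0) (hQf : Q f = 0)
    (hdf : polar Q d f = 1) : ∃ u ∈ D i, polar Q d u = 0 ∧ polar Q f u = 0 ∧ Q u ≠ 0 := by
  by_contra hc
  push Not at hc
  set U := D i ⊓ LinearMap.ker (QuadraticMap.polarBilin Q d) ⊓ LinearMap.ker (QuadraticMap.polarBilin Q f) with hU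
  have hU1 : U ≠ ⊥ := fun e => by
    have h1 := finrank_inf_ker (D i) (QuadraticMap.polarBilin Q d)
    have h2 := finrank_inf_ker (D i ⊓ LinearMap.ker (QuadraticMap.polarBilin Q d)) (QuadraticMap.polarBilin Q f)
    rw [← hU, e, finrank_bot] at h2
    rw [h.dec.dim] at h1
    have := h.k_three
    omega
  have hzero : ∀ x ∈ U, Q x = 0 := fun x hx => hc x hx.1.1 hx.1.2 hx.2
  obtain ⟨x, hx, hx0⟩ := Submodule.exists_mem_ne_zero_of_ne_bot hU1
  have hxd : polar Q d x = 0 := hx.1.2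
  have hxf : polar Q f x = 0 := hx.2
  refine hx0 (eq_zero_of_perp h.dec hx.1.1 fun y hy => ?_)
  set y' := y - polar Q f y • d - polar Q d y • f with hy'
  have hy'U : y' ∈ U := by
    refine ⟨⟨(D i).sub_mem ((D i).sub_mem hy ((D i).smul_mem _ hd)) ((D i).smul_mem _ hf), ?_⟩, ?_⟩
    · show polar Q d y' = 0
      rw [hy', polar_sub_right, polar_sub_right, polar_smul_r', polar_smul_r', polar_self', hQd, hdf]; ring
    · show polar Q f y' = 0
      rw [hy', polar_sub_right, polar_sub_right, polar_smul_r', polar_smul_r', polar_comm Q f d, hdf, polar_self',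
        hQf]; ring
  have e : y = y' + polar Q f y • d + polar Q d y • f := by rw [hy']; abel
  rw [e, polar_add_left, polar_add_left, polar_smul_l', polar_smul_l', hxd, hxf,
    show polar Q y' x = 0 by simp [QuadraticMap.polar, hzero _ (U.add_mem hy'U hx), hzero y' hy'U, hzero x hx]]
  ring

/-- A singular vector of a member pairing with two given ones. -/
theorem Setting.exists_common {i : Fin t} {d y : V} (hd : d ∈ D i) (hd0 : d ≠ 0) (hQd : Q d = 0) (hy : y ∈ D i)
    (hy0 : y ≠ 0) : ∃ r ∈ D i, Q r = 0 ∧ polar Q r d ≠ 0 ∧ polar Q r y ≠ 0 := by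
  obtain ⟨f, hf, hdf, hQf⟩ := h.exists_partner hd hd0 hQd
  by_contra hc
  push Not at hc
  have key : ∀ u ∈ D i, polar Q d u = 0 → polar Q f u = 0 →
      polar Q f y + polar Q u y - Q u * polar Q d y = 0 := by
    intro u hu hdu hfu
    have h1 : polar Q (f + u + (-Q u) • d) d = 1 := by
      rw [polar_add_left, polar_add_left, polar_comm Q f d, hdf, polar_comm Q u d, hdu, polar_smul_l', polar_self',
        hQd]; ring
    have h2 := hc (f + u + (-Q u) • d) ((D i).add_mem ((D i).add_mem hf hu) ((D i).smul_mem _ hd)) (by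
      rw [quad_add', quad_add', hQf, hfu, polar_smul_r', quad_smul', hQd, polar_add_left, polar_comm Q f d, hdf,
        polar_comm Q u d, hdu]; ring) (by rw [h1]; exact one_ne_zero)
    rw [polar_add_left, polar_add_left, polar_smul_l'] at h2
    linear_combination h2
  have hfy : polar Q f y = 0 := by
    have := key 0 (zero_mem _) (by simp) (by simp)
    simpa using this
  have hU : ∀ u ∈ D i, polar Q d u = 0 → polar Q f u = 0 → polar Q u y = 0 ∧ Q u * polar Q d y = 0 := by
    intro u hu hdu hfu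
    have h1 := key u hu hdu hfu
    have h2 := key (-u) (neg_mem hu) (by rw [polar_neg_right, hdu, neg_zero]) (by rw [polar_neg_right, hfu, neg_zero])
    rw [hfy, QuadraticMap.map_neg, polar_neg_left] at h2
    rw [hfy] at h1
    constructor <;> refine mul_left_cancel₀ h.two ?_
    · linear_combination h1 - h2
    · linear_combination -h1 - h2
  obtain ⟨u, hu, hdu, hfu, hQu⟩ := h.exists_aniso hd hf hQd hQf hdf
  have hdy : polar Q d y = 0 := (mul_eq_zero.1 (hU u hu hdu hfu).2).resolve_left hQu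
  refine hy0 (eq_zero_of_perp h.dec hy fun z hz => ?_)
  set z' := z - polar Q f z • d - polar Q d z • f with hz'
  have h1 := (hU z' ((D i).sub_mem ((D i).sub_mem hz ((D i).smul_mem _ hd)) ((D i).smul_mem _ hf)) (by
      rw [hz', polar_sub_right, polar_sub_right, polar_smul_r', polar_smul_r', polar_self', hQd, hdf]; ring) (by
      rw [hz', polar_sub_right, polar_sub_right, polar_smul_r', polar_smul_r', polar_comm Q f d, hdf, polar_self',
        hQf]; ring)).1
  have e : z = z' + polar Q f z • d + polar Q d z • f := by rw [hz']; abel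
  rw [e, polar_add_left, polar_add_left, polar_smul_l', polar_smul_l', h1, hdy, hfy]
  ring

/-- Every non-zero vector of a member is moved. -/
theorem Setting.exists_moving {i : Fin t} {v : V} (hv : v ∈ D i) (hv0 : v ≠ 0) :
    ∃ s, Act D M i s ∧ s.1 v ≠ v := by
  obtain ⟨d₀, hd₀, hd₀0, hQd₀⟩ := h.exists_singular i
  obtain ⟨d, hd, hQd, hdd, hdv⟩ := h.exists_common hd₀ hd₀0 hQd₀ hv hv0
  obtain ⟨f, hf, hdf, hQf⟩ := h.exists_partner hd (fun e => hdd (by rw [e, polar_zero_left])) hQd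
  obtain ⟨u, hu, hdu, hfu, hQu⟩ := h.exists_aniso hd hf hQd hQf hdf
  obtain ⟨s, hs, -, hsx⟩ := h.exists_act hd hQd hu hdu
  refine ⟨s, hs, fun e => ?_⟩
  rw [hsx, add_assoc, add_eq_left] at e
  have h1 := congrArg (polar Q u) e
  rw [polar_add_right, polar_smul_r', polar_smul_r', polar_self', polar_comm Q u d, hdu, polar_zero_right,
    mul_zero, add_zero] at h1
  exact mul_ne_zero hdv (mul_ne_zero h.two hQu) h1

/-- A non-zero invariant subspace of a member is the member. -/
theorem Setting.eq_block {i : Fin t} {T : Submodule F V} {c : V} (hc : c ∈ T) (hc0 : c ≠ 0) (hcD : c ∈ D i)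
    (hT : ∀ s, Act D M i s → ∀ x ∈ T, s.1 x ∈ T) : D i ≤ T := by
  obtain ⟨d₀, hd₀, hd₀0, hQd₀⟩ := h.exists_singular i
  obtain ⟨d, hd, hQd, hdd, hdc⟩ := h.exists_common hd₀ hd₀0 hQd₀ hcD hc0
  have hd0 : d ≠ 0 := fun e => hdd (by rw [e, polar_zero_left])
  obtain ⟨f, hf, hdf, hQf⟩ := h.exists_partner hd hd0 hQd
  have hmove : ∀ u ∈ D i, polar Q d u = 0 →
      polar Q d c • u + (-(polar Q u c) - Q u * polar Q d c) • d ∈ T := by
    intro u hu hdu
    obtain ⟨s, hs, -, hsx⟩ := h.exists_act hd hQd hu hdu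
    have h1 := T.sub_mem (hT s hs c hc) hc
    rwa [hsx, add_assoc, add_sub_cancel_left] at h1
  obtain ⟨u, hu, hdu, hfu, hQu⟩ := h.exists_aniso hd hf hQd hQf hdf
  have hdT : d ∈ T := by
    have h1 := T.add_mem (hmove u hu hdu) (hmove (-u) (neg_mem hu) (by rw [polar_neg_right, hdu, neg_zero]))
    rw [QuadraticMap.map_neg, polar_neg_left] at h1
    have h2 := T.smul_mem ((-2 * Q u * polar Q d c)⁻¹) h1
    have hne : -2 * Q u * polar Q d c ≠ 0 := mul_ne_zero (mul_ne_zero (neg_ne_zero.2 h.two) hQu) hdc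
    have e : polar Q d c • u + (-(polar Q u c) - Q u * polar Q d c) • d +
        (polar Q d c • -u + (- -polar Q u c - Q u * polar Q d c) • d) = (-2 * Q u * polar Q d c) • d := by module
    rwa [e, inv_smul_smul₀ hne] at h2
  intro x hx
  set y := x - (polar Q d x / polar Q d c) • c with hy
  have hdy : polar Q d y = 0 := by rw [hy, polar_sub_right, polar_smul_r', div_mul_cancel₀ _ hdc, sub_self]
  have h1 := T.sub_mem (hmove y ((D i).sub_mem hx ((D i).smul_mem _ hcD)) hdy)
    (T.smul_mem (-(polar Q y c) - Q y * polar Q d c) hdT)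
  rw [add_sub_cancel_right] at h1
  have h2 := T.smul_mem (polar Q d c)⁻¹ h1
  rw [inv_smul_smul₀ hdc] at h2
  have e : x = y + (polar Q d x / polar Q d c) • c := by rw [hy, sub_add_cancel]
  rw [e]
  exact T.add_mem h2 (T.smul_mem _ hc)

/-- The parameters at a fixed vector, as a submodule. -/
def Setting.params (d : V) (hd : Q d = 0) : Submodule F V where
  carrier := {u | Pair M d u}
  add_mem' := h.add
  zero_mem' := by
    have := pair_self (M := M) hd (0 : F)
    rwa [zero_smul] at this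
  smul_mem' := fun a _ hu => Pair.smul hu a

theorem Setting.mem_params {d u : V} (hd : Q d = 0) : u ∈ h.params d hd ↔ Pair M d u := Iff.rfl

/-- One parameter in a member, the vector being fixed by it, gives all of the member. -/
theorem Setting.all_of_one {i : Fin t} {d u : V} (hu : Pair M d u) (hu0 : u ≠ 0) (huD : u ∈ D i)
    (hfix : ∀ y ∈ D i, polar Q y d = 0) : ∀ v ∈ D i, Pair M d v := fun _ hv =>
  h.eq_block (T := h.params d hu.1) hu hu0 huD (fun s hs x hx => by
    have := Pair.map (g := s) hx hs.1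
    rwa [hs.2.2 d hfix] at this) hv

/-- All Siegel elements between two members. -/
def Rel (D : Fin t → Submodule F V) (M : Subgroup (orthGroup Q)) (i j : Fin t) : Prop :=
  ∀ d ∈ D i, Q d = 0 → ∀ v ∈ D j, Pair M d v

theorem Setting.rel_of_vec {i j : Fin t} (hij : i ≠ j) {d₀ : V} (hd₀ : d₀ ∈ D i) (hd₀0 : d₀ ≠ 0)
    (hQd₀ : Q d₀ = 0) (hall : ∀ v ∈ D j, Pair M d₀ v) : Rel D M i j := by
  intro d hd hQd v hv
  rcases eq_or_ne d 0 with rfl | hd0
  · refine ⟨map_zero Q, by simp, fun c g hg => ?_⟩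
    exact AxIn.zero M _ g hg
  obtain ⟨r, hr, hQr, hrd₀, hrd⟩ := h.exists_common hd₀ hd₀0 hQd₀ hd hd0
  set a := polar Q r d₀ / polar Q r d with ha
  have ha0 : a ≠ 0 := div_ne_zero hrd₀ hrd
  obtain ⟨g, hg, hgd⟩ := siegel_move h.nondeg hQr hQd₀ (y := a • d) (by rw [quad_smul', hQd, mul_zero]) hrd₀
    (by rw [polar_smul_r', ha, div_mul_cancel₀ _ hrd])
  have hu := (D i).smul_mem (polar Q r d₀)⁻¹ ((D i).sub_mem ((D i).smul_mem a hd) hd₀)
  have hgv : g.1 v = v := hg.fix (orth_polar h.dec hij hr hv) (orth_polar h.dec hij hu hv)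
  have h1 := (hall v hv).map (h.block i r hr _ hu g hg)
  rw [hgd, hgv] at h1
  exact h1.of_smul_left ha0

/-- A singular vector of a member with a parameter elsewhere. -/
theorem Setting.rel_of_singular {i j : Fin t} (hij : i ≠ j) {d u : V} (hd : d ∈ D i) (hd0 : d ≠ 0)
    (hu : Pair M d u) (huj : h.dec.comp j u ≠ 0) : Rel D M i j := by
  have hfix : ∀ y ∈ D j, polar Q y d = 0 := fun y hy => orth_polar h.dec hij.symm hy hd
  obtain ⟨s, hs, hmv⟩ := h.exists_moving (h.dec.comp_mem j u) huj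
  have h1 := Pair.map hu hs.1
  rw [hs.2.2 d hfix, hs.apply_comp h.dec u] at h1
  have h2 := h.sub h1 hu
  rw [add_sub_cancel_left] at h2
  exact h.rel_of_vec hij hd hd0 hu.1 (h.all_of_one h2 (sub_ne_zero.2 hmv)
    ((D j).sub_mem (hs.2.1 _ (h.dec.comp_mem j u)) (h.dec.comp_mem j u)) hfix)

theorem Setting.rel_symm {i j : Fin t} (hij : i ≠ j) (hR : Rel D M i j) : Rel D M j i := by
  obtain ⟨d, hd, hd0, hQd⟩ := h.exists_singular i
  obtain ⟨v, hv, hv0, hQv⟩ := h.exists_singular j
  refine h.rel_of_singular hij.symm hv hv0 (h.swap (hR d hd hQd v hv) hQv) ?_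
  rw [h.dec.comp_self hd]; exact hd0

omit h in
theorem Rel.map {e : orthGroup Q} (he : e ∈ M) {i j i' j' : Fin t} (hR : Rel D M i j)
    (hi : (D i).map (e.1 : V →ₗ[F] V) = D i') (hj : (D j).map (e.1 : V →ₗ[F] V) = D j') : Rel D M i' j' := by
  intro d hd hQd v hv
  obtain ⟨d', hd', rfl⟩ := hi.ge hd
  obtain ⟨v', hv', rfl⟩ := hj.ge hv
  exact Pair.map (hR d' hd' ((apply_quad e d').symm.trans hQd) v' hv') he

omit h in
theorem map_eq_of (hdec : MemberDecomp (QuadraticMap.polarBilin Q) D k) {e : orthGroup Q} {i j : Fin t}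
    (he : ∀ x ∈ D i, e.1 x ∈ D j) : (D i).map (e.1 : V →ₗ[F] V) = D j :=
  Submodule.eq_of_le_of_finrank_eq (by rintro _ ⟨x, hx, rfl⟩; exact he x hx)
    ((LinearEquiv.finrank_map_eq e.1 _).trans ((hdec.dim i).trans (hdec.dim j).symm))

theorem Setting.rel_all {i j : Fin t} (hij : i ≠ j) (hR : Rel D M i j) :
    ∀ a b, a ≠ b → Rel D M a b := by
  have key : ∀ {i j : Fin t}, i ≠ j → Rel D M i j → ∀ l, i ≠ l → Rel D M i l := by
    intro i j hij hR l hil
    rcases eq_or_ne j l with rfl | hjl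
    · exact hR
    obtain ⟨e, he, hei, hej, hel, -⟩ := h.cyc i j l hij hjl hil
    have h2 := Rel.map he (Rel.map he hR (map_eq_of h.dec hei) (map_eq_of h.dec hej)) (map_eq_of h.dec hej)
      (map_eq_of h.dec hel)
    exact h.rel_symm hil.symm h2
  intro a b hab
  rcases eq_or_ne i a with rfl | hia
  · exact key hij hR b hab
  · exact key (Ne.symm hia) (h.rel_symm hia (key hij hR a hia)) b hab

/-- All Siegel elements. -/
theorem Setting.omega_le (h5 : 5 ≤ finrank F V) {i j : Fin t} (hij : i ≠ j) (hR : Rel D M i j) :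
    commutator (orthGroup Q) ≤ M := by
  obtain ⟨hp⟩ := exists_hypPairs h.nondeg h5
  rw [commutator_eq_siegelGroup h.nondeg (good_of_two_ne h.two) hp h5]
  have hax : ∀ a, ∀ d ∈ D a, Q d = 0 → AxIn M d := by
    intro a d hd hQd u g hg
    have hdu : ∀ m, polar Q d (h.dec.comp m u) = 0 := fun m => by
      rcases eq_or_ne a m with rfl | ham
      · rw [comp_polar h.dec hd]; exact hg.2.1
      · exact orth_polar h.dec ham hd (h.dec.comp_mem m u)
    have hu : Pair M d u := by
      rw [← h.dec.sum_comp u]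
      refine Submodule.sum_mem (h.params d hQd) fun m _ => ?_
      rcases eq_or_ne a m with rfl | ham
      · exact h.pair_block hd hQd (h.dec.comp_mem _ u) (hdu _)
      · exact h.rel_all hij hR a m ham d hd hQd _ (h.dec.comp_mem m u)
    have h1 := hu.2.2 1
    rw [one_smul] at h1
    exact h1 g hg
  refine siegelGroup_le_of_ax fun y hy => ?_
  rcases eq_or_ne y 0 with rfl | hy0
  · exact AxIn.zero M
  obtain ⟨a, ha⟩ : ∃ a, h.dec.comp a y ≠ 0 := by
    by_contra hc
    push Not at hc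
    exact hy0 (h.dec.ext_comp fun a => by rw [map_zero]; exact hc a)
  obtain ⟨d₀, hd₀, hd₀0, hQd₀⟩ := h.exists_singular a
  obtain ⟨r, hr, hQr, hrd, hry⟩ := h.exists_common hd₀ hd₀0 hQd₀ (h.dec.comp_mem a y) ha
  rw [comp_polar h.dec hr] at hry
  exact ax_move h.nondeg (hax a r hr hQr) hQr hQd₀ hy hrd hry (hax a d₀ hd₀ hQd₀)

end CfsgLib.Classical.OrthDecompMax
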