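import Cfsg.Agent.Lib.Classical.OrthDecompMax.Block
import Cfsg.Agent.Lib.Classical.SubfieldOrth.QuadFrame

/-!
# Moving one vector of a member, and differences of a vector and its images
-/

set_option autoImplicit false
set_option linter.unusedSectionVars false

namespace CfsgLib.Classical.OrthDecompMax

open Module QuadraticMap CfsgLib.Orth CfsgLib.Classical

variable {F V : Type*} [Field F] [Fintype F] [AddCommGroup V] [Module F V] [FiniteDimensional F V]
  {Q : QuadraticForm F V} {t k : ℕ} {D : Fin t → Submodule F V} {M : Subgroup (orthGroup Q)}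

theorem mul_nonsquares {a b : F} (ha : ¬ IsSquare a) (hb : ¬ IsSquare b) : IsSquare (a * b) := by
  classical
  refine (quadraticChar_one_iff_isSquare (mul_ne_zero (a := a) (b := b) (fun e => ha (by rw [e]; exact IsSquare.zero))
    (fun e => hb (by rw [e]; exact IsSquare.zero)))).1 ?_
  rw [map_mul, quadraticChar_neg_one_iff_not_isSquare.2 ha, quadraticChar_neg_one_iff_not_isSquare.2 hb]
  norm_num

theorem pick (h5 : 5 ≤ Fintype.card F) (c : F) : ∃ y : F, y ≠ 0 ∧ y * y ≠ c := by
  classical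
  by_contra hc
  push Not at hc
  obtain ⟨y, hy⟩ : ∃ y : F, y ≠ 0 := ⟨1, one_ne_zero⟩
  have hle : (Finset.univ : Finset F) ⊆ {0, y, -y} := fun z _ => by
    by_cases hz : z = 0
    · simp [hz]
    · rcases mul_self_eq_mul_self_iff.1 ((hc z hz).trans (hc y hy).symm) with rfl | rfl <;> simp
  have := (Finset.card_le_card hle).trans Finset.card_le_three
  rw [Finset.card_univ] at this
  omega

theorem pick_two (h5 : 5 ≤ Fintype.card F) (p q : F) : ∃ y : F, y ≠ 0 ∧ y ≠ p ∧ y ≠ q := by
  classical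
  by_contra hc
  push Not at hc
  have hle : (Finset.univ : Finset F) ⊆ {0, p, q} := fun z _ => by
    by_cases hz : z = 0
    · simp [hz]
    · by_cases hp : z = p
      · simp [hp]
      · simp [hc z hz hp]
  have := (Finset.card_le_card hle).trans Finset.card_le_three
  rw [Finset.card_univ] at this
  omega

/-- For a vector of a member: a non-zero singular difference with one of its images, or differences of
two values of opposite kinds. -/
def Diff (D : Fin t → Submodule F V) (M : Subgroup (orthGroup Q)) (κ : F) (l : Fin t) (a : V) : Prop :=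
  (∃ s, Act D M l s ∧ s.1 a ≠ a ∧ Q (s.1 a - a) = 0) ∨
    (¬ IsSquare (κ * Q a) ∧ (∃ c : F, c ≠ 0 ∧ ∃ s, Act D M l s ∧ Q (s.1 a - a) = -(κ * (c * c))) ∧
      ∀ c : F, c ≠ 0 → ∃ s, Act D M l s ∧ Q (s.1 a - a) = κ * (c * c))

/-- A vector of a member is moved by the stabiliser of another one not on its line. -/
def Moves (D : Fin t → Submodule F V) (M : Subgroup (orthGroup Q)) (l : Fin t) (a v : V) : Prop :=
  ∃ s, Act D M l s ∧ s.1 a = a ∧ s.1 v ≠ v

/-- Hyperbolic coordinates of a member of dimension three. -/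
structure Frame (Q : QuadraticForm F V) (D : Fin t → Submodule F V) (i : Fin t) (d f w : V) (κ : F) : Prop where
  hd : d ∈ D i
  hf : f ∈ D i
  hw : w ∈ D i
  qd : Q d = 0
  qf : Q f = 0
  qw : Q w = κ
  df : polar Q d f = 1
  dw : polar Q d w = 0
  fw : polar Q f w = 0
  ne : κ ≠ 0
  decomp : ∀ x ∈ D i, x = polar Q f x • d + polar Q d x • f + (polar Q w x / (2 * κ)) • w

theorem Frame.swap {i : Fin t} {d f w : V} {κ : F} (hF : Frame Q D i d f w κ) : Frame Q D i f d w κ :=
  ⟨hF.hf, hF.hd, hF.hw, hF.qf, hF.qd, hF.qw, by rw [polar_comm, hF.df], hF.fw, hF.dw, hF.ne, fun x hx => by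
    conv_lhs => rw [hF.decomp x hx]
    abel⟩

theorem Frame.map {i j : Fin t} {d f w : V} {κ : F} (hF : Frame Q D i d f w κ) {e : orthGroup Q}
    (he : (D i).map (e.1 : V →ₗ[F] V) = D j) : Frame Q D j (e.1 d) (e.1 f) (e.1 w) κ := by
  refine ⟨he.le ⟨d, hF.hd, rfl⟩, he.le ⟨f, hF.hf, rfl⟩, he.le ⟨w, hF.hw, rfl⟩, (apply_quad e d).trans hF.qd,
    (apply_quad e f).trans hF.qf, (apply_quad e w).trans hF.qw, (polar_isom e d f).trans hF.df,
    (polar_isom e d w).trans hF.dw, (polar_isom e f w).trans hF.fw, hF.ne, fun x hx => ?_⟩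
  obtain ⟨x', hx', rfl⟩ := he.ge hx
  simp only [LinearEquiv.coe_coe, polar_isom]
  conv_lhs => rw [hF.decomp x' hx']
  simp only [map_add, map_smul]

theorem Frame.pf {i : Fin t} {d f w : V} {κ : F} (hF : Frame Q D i d f w κ) :
    polar Q f d = 1 ∧ polar Q w d = 0 ∧ polar Q w f = 0 :=
  ⟨by rw [polar_comm]; exact hF.df, by rw [polar_comm]; exact hF.dw, by rw [polar_comm]; exact hF.fw⟩

variable (h : Setting Q D k M)
include h

theorem Frame.exists_rot {i : Fin t} {d f w : V} {κ : F} (hF : Frame Q D i d f w κ) (x : F) :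
    ∃ s, Act D M i s ∧ ∀ p q r : F, s.1 (p • d + q • f + r • w) =
      (p - 2 * κ * x * r - κ * (x * x) * q) • d + q • f + (r + x * q) • w := by
  obtain ⟨s, hs, -, hsx⟩ := h.exists_act hF.hd hF.qd ((D i).smul_mem x hF.hw)
    (show polar Q d (x • w) = 0 by rw [polar_smul_r', hF.dw, mul_zero])
  refine ⟨s, hs, fun p q r => ?_⟩
  obtain ⟨hfd, hwd, hwf⟩ := hF.pf
  rw [hsx]
  simp only [polar_add_right, polar_smul_r', polar_smul_l', polar_self', quad_smul', hF.qd, hF.qw, hF.df, hF.dw,
    hwd, hwf]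
  module

/-- The composite that keeps a vector in the plane of the pair. -/
theorem Frame.exists_step {i : Fin t} {d f w : V} {κ : F} (hF : Frame Q D i d f w κ) (α β y : F)
    (hβ : β - κ * (y * y) * α ≠ 0) :
    ∃ s, Act D M i s ∧ s.1 (α • d + β • f) =
        (α * β / (β - κ * (y * y) * α)) • d + (β - κ * (y * y) * α) • f ∧
      ∀ p q r : F, s.1 (p • d + q • f + r • w) =
        (p - 2 * κ * (-(α * y) / (β - κ * (y * y) * α)) * (r + y * p) -
          κ * (-(α * y) / (β - κ * (y * y) * α) * (-(α * y) / (β - κ * (y * y) * α))) *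
            (q - 2 * κ * y * r - κ * (y * y) * p)) • d +
        (q - 2 * κ * y * r - κ * (y * y) * p) • f +
          (r + y * p + (-(α * y) / (β - κ * (y * y) * α)) * (q - 2 * κ * y * r - κ * (y * y) * p)) • w := by
  obtain ⟨s₁, hs₁, h₁⟩ := Frame.exists_rot h hF.swap y
  obtain ⟨s₂, hs₂, h₂⟩ := Frame.exists_rot h hF (-(α * y) / (β - κ * (y * y) * α))
  have hform : ∀ p q r : F, (s₂ * s₁).1 (p • d + q • f + r • w) = _ := fun p q r => by
    show s₂.1 (s₁.1 (p • d + q • f + r • w)) = _
    rw [add_comm (p • d), h₁, add_comm ((q - 2 * κ * y * r - κ * (y * y) * p) • f), h₂]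
  refine ⟨s₂ * s₁, hs₂.mul hs₁, ?_, hform⟩
  have h5 := hform α β 0
  rw [zero_smul, add_zero] at h5
  rw [h5]
  generalize hb : β - κ * (y * y) * α = b at hβ ⊢
  have hb' : β - 2 * κ * y * 0 - κ * (y * y) * α = b := by rw [← hb]; ring
  rw [hb']
  have e1 : α - 2 * κ * (-(α * y) / b) * (0 + y * α) - κ * (-(α * y) / b * (-(α * y) / b)) * b = α * β / b := by
    rw [show β = b + κ * (y * y) * α by rw [← hb]; ring]
    field_simp
    ring
  have e2 : 0 + y * α + -(α * y) / b * b = 0 := by field_simp; ring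
  rw [e1, e2, zero_smul, add_zero]

/-- A frame adapted to a vector. -/
theorem Frame.adapt {i : Fin t} {d f w : V} {κ : F} (hF : Frame Q D i d f w κ) {a : V} (ha : a ∈ D i) (ha0 : a ≠ 0) :
    ∃ (d' f' w' : V) (α β : F), Frame Q D i d' f' w' κ ∧ β ≠ 0 ∧ a = α • d' + β • f' := by
  obtain ⟨d₁, f₁, w₁, hF₁, hβ⟩ : ∃ d₁ f₁ w₁, Frame Q D i d₁ f₁ w₁ κ ∧ polar Q d₁ a ≠ 0 := by
    by_cases hd : polar Q d a = 0
    swap
    · exact ⟨d, f, w, hF, hd⟩
    by_cases hf : polar Q f a = 0
    swap
    · exact ⟨f, d, w, hF.swap, hf⟩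
    obtain ⟨s, hs, hsx⟩ := Frame.exists_rot h hF.swap 1
    refine ⟨_, _, _, hF.map (map_eq_of h.dec hs.2.1), fun e => ha0 ?_⟩
    have h1 := hsx 0 1 0
    rw [zero_smul, one_smul, zero_smul, zero_add, add_zero] at h1
    simp only [h1, polar_add_left, polar_smul_l', hd, hf] at e
    have hw : polar Q w a = 0 := by linear_combination e
    rw [hF.decomp a ha, hd, hf, hw]
    simp
  set β := polar Q d₁ a
  set x := polar Q w₁ a / (2 * κ * β) with hx
  obtain ⟨s, hs, hsx⟩ := Frame.exists_rot h hF₁ x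
  have hsd : s.1 d₁ = d₁ := by simpa using hsx 1 0 0
  have hsw : s.1 w₁ = (-(2 * κ * x)) • d₁ + w₁ := by
    have h1 := hsx 0 0 1
    simpa [sub_eq_add_neg] using h1
  have hF₂ := hF₁.map (map_eq_of h.dec hs.2.1)
  refine ⟨_, _, _, polar Q (s.1 f₁) a, β, hF₂, hβ, ?_⟩
  have hw0 : polar Q (s.1 w₁) a = 0 := by
    rw [hsw, polar_add_left, polar_smul_l', hx]
    show -(2 * κ * (polar Q w₁ a / (2 * κ * β))) * β + polar Q w₁ a = 0
    have := h.two
    have := hF₁.ne
    field_simp
    ring
  conv_lhs => rw [hF₂.decomp a ha, hw0]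
  rw [hsd]
  simp only [zero_div, zero_smul, add_zero]
  rfl

theorem moves_conic (h5 : 5 ≤ Fintype.card F) {i : Fin t} {d f w : V} {κ : F} (hF : Frame Q D i d f w κ)
    {a v : V} (ha : a ∈ D i) (ha0 : a ≠ 0) (hv : v ∈ D i) (hav : v ∉ F ∙ a) : Moves D M i a v := by
  obtain ⟨d', f', w', α, β, hF', hβ, rfl⟩ := Frame.adapt h hF ha ha0
  obtain ⟨y, hy0, hy⟩ := pick h5 (β / (κ * α))
  have hb : β - κ * (y * y) * α ≠ 0 := by
    intro e
    rcases eq_or_ne α 0 with hα | hα
    · exact hβ (by rw [hα] at e; linear_combination e)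
    · refine hy ?_
      rw [eq_div_iff (mul_ne_zero hF.ne hα)]
      linear_combination -e
  have hb' : β - κ * (-y * -y) * α ≠ 0 := by rwa [neg_mul_neg]
  obtain ⟨sP, hsP, haP, hP⟩ := Frame.exists_step h hF' α β y hb
  obtain ⟨sN, hsN, haN, hN⟩ := Frame.exists_step h hF' α β (-y) hb'
  refine ⟨sN⁻¹ * sP, hsN.inv.mul hsP, ?_, fun e => hav ?_⟩
  · show sN.1.symm (sP.1 _) = _
    rw [LinearEquiv.symm_apply_eq, haP, haN, neg_mul_neg]
  have hsv : sP.1 v = sN.1 v := by
    have e' : sN.1.symm (sP.1 v) = v := e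
    rwa [LinearEquiv.symm_apply_eq] at e'
  obtain ⟨hfd, hwd, hwf⟩ := hF'.pf
  set p := polar Q f' v
  set q := polar Q d' v
  set r := polar Q w' v / (2 * κ)
  have hvd : v = p • d' + q • f' + r • w' := hF'.decomp v hv
  rw [hvd, hP, hN, neg_mul_neg] at hsv
  have e1 := congrArg (polar Q d') hsv
  simp only [polar_add_right, polar_smul_r', polar_self', hF'.qd, hF'.df, hF'.dw] at e1
  have hr : r = 0 := by
    have h3 : (2 * 2 * κ * y) * r = 0 := by linear_combination -e1
    exact (mul_eq_zero.1 h3).resolve_left (mul_ne_zero (mul_ne_zero (mul_ne_zero h.two h.two) hF.ne) hy0)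
  have e2 := congrArg (polar Q w') hsv
  simp only [polar_add_right, polar_smul_r', polar_self', hF'.qw, hwd, hwf, hr] at e2
  have hpq : p * β = α * q := by
    have h2 := h.two
    have hk := hF.ne
    generalize hg : β - κ * (y * y) * α = b at hb e2 ⊢
    have h3 : (2 * κ * 2 * y) * (p * b - α * (q - κ * (y * y) * p)) = 0 := by
      linear_combination b * e2 - 4 * κ * (q - κ * (y * y) * p) * div_mul_cancel₀ (-(α * y)) hb
    have h4 := (mul_eq_zero.1 h3).resolve_left (mul_ne_zero (mul_ne_zero (mul_ne_zero h2 hk) h2) hy0)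
    linear_combination h4 + p * hg
  refine Submodule.mem_span_singleton.2 ⟨q / β, ?_⟩
  rw [hvd, hr, zero_smul, add_zero, smul_add, smul_smul, smul_smul, div_mul_cancel₀ _ hβ]
  congr 2
  field_simp
  linear_combination -hpq

theorem diff_conic (h5 : 5 ≤ Fintype.card F) {i : Fin t} {d f w : V} {κ : F} (hF : Frame Q D i d f w κ)
    {a : V} (ha : a ∈ D i) (ha0 : a ≠ 0) : Diff D M κ i a := by
  classical
  obtain ⟨d', f', w', α, β, hF', hβ, rfl⟩ := Frame.adapt h hF ha ha0
  obtain ⟨hfd, hwd, hwf⟩ := hF'.pf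
  have hQa : ∀ x y : F, Q (x • d' + y • f') = x * y := fun x y => by
    rw [quad_add', quad_smul', quad_smul', hF'.qd, hF'.qf, polar_smul_l', polar_smul_r', hF'.df]; ring
  rcases eq_or_ne α 0 with rfl | hα
  · -- a singular vector goes to a multiple
    left
    obtain ⟨y, hy0, hy⟩ := pick h5 (1 / (κ * κ))
    obtain ⟨s₁, hs₁, ha₁, -⟩ := Frame.exists_step h hF'.swap β 0 1
      (by simpa using mul_ne_zero hF.ne hβ)
    obtain ⟨s₂, hs₂, ha₂, -⟩ := Frame.exists_step h hF' (0 - κ * (1 * 1) * β) 0 y (by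
      simpa using mul_ne_zero (mul_ne_zero hF.ne (mul_ne_zero hy0 hy0)) (mul_ne_zero hF.ne hβ))
    have e : (s₂ * s₁).1 ((0 : F) • d' + β • f') = (κ * (y * y) * (κ * β)) • f' := by
      show s₂.1 (s₁.1 _) = _
      rw [add_comm, ha₁, mul_zero, zero_div, zero_smul, zero_add]
      simp only [mul_zero, zero_div, zero_smul, zero_add, add_zero] at ha₂ ⊢
      rw [ha₂]
      congr 1
      ring
    refine ⟨s₂ * s₁, hs₂.mul hs₁, ?_, ?_⟩
    · rw [e, zero_smul, zero_add]
      intro e1
      have h1 := congrArg (polar Q d') e1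
      rw [polar_smul_r', polar_smul_r', hF'.df] at h1
      refine hy ?_
      rw [eq_div_iff (mul_ne_zero hF.ne hF.ne)]
      refine mul_left_cancel₀ hβ ?_
      linear_combination h1
    · rw [e, zero_smul, zero_add, ← sub_smul, quad_smul', hF'.qf, mul_zero]
  have hA : Q (α • d' + β • f') = α * β := hQa α β
  by_cases hsq : IsSquare (κ * Q (α • d' + β • f'))
  · -- the orthogonal plane is hyperbolic
    left
    obtain ⟨r, hr⟩ := hsq
    rw [hA] at hr
    set z := (r / κ) • w' + α • d' - β • f' with hz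
    have hQz : Q z = 0 := by
      rw [hz, sub_eq_add_neg, quad_add', quad_add', QuadraticMap.map_neg, quad_smul', quad_smul', quad_smul', hF'.qd,
        hF'.qf, hF'.qw, polar_neg_right, polar_add_left, polar_smul_l', polar_smul_l', polar_smul_l', polar_smul_r',
        polar_smul_r', polar_smul_r', hwd, hwf, hF'.df]
      have := hF.ne
      field_simp
      linear_combination -hr
    have hza : polar Q z (α • d' + β • f') = 0 := by
      simp only [hz, sub_eq_add_neg, polar_add_left, polar_neg_left, polar_smul_l', polar_add_right, polar_smul_r',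
        polar_self', hF'.qd, hF'.qf, hF'.df, hfd, hwd, hwf]
      ring
    have hz0 : z ≠ 0 := fun e => by
      have h1 := congrArg (polar Q f') e
      simp only [hz, sub_eq_add_neg, polar_add_right, polar_neg_right, polar_smul_r', polar_self', hF'.qf, hF'.fw,
        hfd, polar_zero_right] at h1
      exact hα (by linear_combination h1)
    obtain ⟨s, hs, -, hsx⟩ := h.exists_act
      ((D i).sub_mem ((D i).add_mem ((D i).smul_mem _ hF'.hw) ((D i).smul_mem _ hF'.hd)) ((D i).smul_mem _ hF'.hf))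
      hQz ha hza
    have e : s.1 (α • d' + β • f') - (α • d' + β • f') = (-(2 * (α * β))) • z := by
      rw [hsx, hza, polar_self', hA]; module
    refine ⟨s, hs, fun e1 => ?_, by rw [e, quad_smul', hQz, mul_zero]⟩
    rw [e1, sub_self, eq_comm, smul_eq_zero] at e
    exact mul_ne_zero h.two (mul_ne_zero hα hβ) (neg_eq_zero.1 (e.resolve_right hz0))
  · right
    refine ⟨hsq, ?_, fun c hc => ?_⟩
    · have hτ : ¬ IsSquare (κ * α / β) := fun ⟨u, hu⟩ => hsq ⟨u * β, by
        rw [hA, show κ * (α * β) = κ * α / β * (β * β) by field_simp, hu]; ring⟩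
      set τ := κ * α / β with hτd
      have hτ0 : τ ≠ 0 := fun e => hτ (e ▸ IsSquare.zero)
      obtain ⟨y, z, hyz⟩ := FiniteField.exists_root_sum_quadratic (R := F)
        (f := Polynomial.C τ * Polynomial.X ^ 2 - Polynomial.C 1) (g := Polynomial.C τ * Polynomial.X ^ 2)
        (by rw [Polynomial.degree_sub_C (by simp [Polynomial.degree_C_mul_X_pow 2 hτ0]),
              Polynomial.degree_C_mul_X_pow 2 hτ0]; norm_num)
        (by rw [Polynomial.degree_C_mul_X_pow 2 hτ0]; norm_num)
        (FiniteField.odd_card_of_char_ne_two fun e => h.two (by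
          haveI := ringChar.of_eq e; exact CharTwo.two_eq_zero))
      simp only [Polynomial.eval_sub, Polynomial.eval_mul, Polynomial.eval_C, Polynomial.eval_pow,
        Polynomial.eval_X] at hyz
      have hz0 : z ≠ 0 := fun e => hτ ⟨y⁻¹, by
        have h1 : τ * y ^ 2 = 1 := by rw [e] at hyz; linear_combination hyz
        have hy0 : y ≠ 0 := fun e' => by rw [e'] at h1; simp at h1
        field_simp
        linear_combination h1⟩
      have hy0 : y ≠ 0 := fun e => hτ ⟨z⁻¹, by
        have h1 : τ * z ^ 2 = 1 := by rw [e] at hyz; linear_combination hyz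
        field_simp
        linear_combination h1⟩
      have hr : β - κ * (y * y) * α = β * (τ * z ^ 2) := by
        rw [hτd] at hyz ⊢
        field_simp at hyz ⊢
        linear_combination -hyz
      have hb : β - κ * (y * y) * α ≠ 0 := by rw [hr]; exact mul_ne_zero hβ (mul_ne_zero hτ0 (pow_ne_zero _ hz0))
      obtain ⟨s, hs, hsa, -⟩ := Frame.exists_step h hF' α β y hb
      refine ⟨(τ * z ^ 2 - 1) * β / (κ * z), ?_, s, hs, ?_⟩
      · refine div_ne_zero (mul_ne_zero (fun e => ?_) hβ) (mul_ne_zero hF.ne hz0)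
        exact hy0 (mul_self_eq_zero.1 (mul_left_cancel₀ hτ0 (by linear_combination hyz - e)))
      · rw [hsa, hr, show ((α * β / (β * (τ * z ^ 2))) • d' + (β * (τ * z ^ 2)) • f' - (α • d' + β • f')) =
          (α * β / (β * (τ * z ^ 2)) - α) • d' + (β * (τ * z ^ 2) - β) • f' by module, hQa, hτd]
        have := hF.ne
        field_simp
        ring
    · obtain ⟨s, hs, hsx⟩ := Frame.exists_rot h hF' (c / β)
      refine ⟨s, hs, ?_⟩
      have h1 := hsx α β 0
      rw [zero_smul, add_zero] at h1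
      rw [h1, show (α - 2 * κ * (c / β) * 0 - κ * (c / β * (c / β)) * β) • d' + β • f' + (0 + c / β * β) • w' -
        (α • d' + β • f') = (-(κ * (c / β * (c / β)) * β)) • d' + c • w' by
        rw [div_mul_cancel₀ _ hβ]; module]
      rw [quad_add', quad_smul', quad_smul', hF'.qd, hF'.qw, polar_smul_l', polar_smul_r', hF'.dw]
      ring

theorem moves_big (h5 : 5 ≤ k) {i : Fin t} {a v : V} (ha : a ∈ D i) (hv : v ∈ D i) (hav : v ∉ F ∙ a) :
    Moves D M i a v := by
  classical
  obtain ⟨z₀, hz₀a, hz₀v⟩ := exists_polar_one h.nondeg hav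
  set Q' : QuadraticForm F (D i) := Q.comp (D i).subtype with hQ'
  have hp : ∀ x y : D i, polar Q' x y = polar Q (x : V) (y : V) := fun x y => rfl
  have hnd : (QuadraticMap.polarBilin Q').Nondegenerate := nondegenerate_of_left (Q := Q') fun x hx =>
    Subtype.ext (eq_zero_of_perp h.dec x.2 fun y hy => by rw [polar_comm]; exact hx ⟨y, hy⟩)
  set U : Submodule F (D i) := LinearMap.ker (QuadraticMap.polarBilin Q' ⟨a, ha⟩) with hU
  have hdim : finrank F (D i) + 3 ≤ 2 * finrank F U := by
    have h1 := finrank_inf_ker (⊤ : Submodule F (D i)) (QuadraticMap.polarBilin Q' ⟨a, ha⟩)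
    rw [top_inf_eq, finrank_top, ← hU, h.dec.dim] at h1
    rw [h.dec.dim]
    omega
  have hzU : (⟨h.dec.comp i z₀, h.dec.comp_mem i z₀⟩ : D i) ∈ U := by
    show polar Q a (h.dec.comp i z₀) = 0
    rw [comp_polar h.dec ha, polar_comm]
    exact hz₀a a (Submodule.mem_span_singleton_self a)
  obtain ⟨z, hzU', hQz, hzv⟩ : ∃ z : D i, z ∈ U ∧ Q (z : V) = 0 ∧ polar Q (z : V) v ≠ 0 := by
    by_contra hc
    push Not at hc
    have h1 : polar Q' ⟨h.dec.comp i z₀, h.dec.comp_mem i z₀⟩ ⟨v, hv⟩ = 0 :=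
      Submodule.span_induction (p := fun x _ => polar Q' x ⟨v, hv⟩ = 0) (fun x hx => hc x hx.1 hx.2)
        (by simp) (fun x y _ _ hx hy => by rw [polar_add_left, hx, hy, add_zero])
        (fun c x _ hx => by rw [polar_smul_l', hx, mul_zero]) (SubfieldOrth.le_span_singular hnd hdim hzU)
    rw [hp, polar_comm, comp_polar h.dec hv, polar_comm, hz₀v] at h1
    exact one_ne_zero h1
  have hza : polar Q (z : V) a = 0 := by rw [polar_comm]; exact hzU'
  set U₂ := D i ⊓ LinearMap.ker (QuadraticMap.polarBilin Q a) ⊓ LinearMap.ker (QuadraticMap.polarBilin Q (z : V))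
    with hU₂
  obtain ⟨x, hx, hxz⟩ : ∃ x ∈ U₂, x ∉ F ∙ (z : V) := by
    refine SetLike.not_le_iff_exists.1 fun hle => ?_
    have h1 := Submodule.finrank_mono hle
    have h2 := finrank_inf_ker (D i) (QuadraticMap.polarBilin Q a)
    have h3 := finrank_inf_ker (D i ⊓ LinearMap.ker (QuadraticMap.polarBilin Q a))
      (QuadraticMap.polarBilin Q (z : V))
    have h4 : finrank F (F ∙ (z : V)) ≤ 1 := by simpa using finrank_span_le_card (R := F) ({(z : V)} : Set V)
    rw [h.dec.dim] at h2
    rw [← hU₂] at h3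
    omega
  have hxa : polar Q a x = 0 := hx.1.2
  obtain ⟨s, hs, hss, hsx⟩ := h.exists_act z.2 hQz hx.1.1 (hx.2 : polar Q (z : V) x = 0)
  refine ⟨s, hs, hss.fix hza (by rw [polar_comm]; exact hxa), fun e => hxz ?_⟩
  rw [hsx, add_assoc, add_eq_left, add_eq_zero_iff_eq_neg] at e
  refine Submodule.mem_span_singleton.2 ⟨(polar Q (z : V) v)⁻¹ * -(-(polar Q x v) - Q x * polar Q (z : V) v), ?_⟩
  rw [mul_smul, neg_smul, ← e, inv_smul_smul₀ hzv]

theorem diff_big (h5 : 5 ≤ k) {i : Fin t} {a : V} (ha : a ∈ D i) (ha0 : a ≠ 0) (κ : F) : Diff D M κ i a := by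
  left
  obtain ⟨d₀, hd₀, hd₀0, hQd₀⟩ := h.exists_singular i
  obtain ⟨z, hz, hQz, hzd, hza⟩ := h.exists_common hd₀ hd₀0 hQd₀ ha ha0
  obtain ⟨f, hf, hzf, hQf⟩ := h.exists_partner hz (fun e => hzd (by rw [e, polar_zero_left])) hQz
  obtain ⟨x, hx, hx0, hQx⟩ := SimMax.exists_singular_of_three (Q := Q) h.two
    (U := D i ⊓ LinearMap.ker (QuadraticMap.polarBilin Q z) ⊓ LinearMap.ker (QuadraticMap.polarBilin Q f)) (by
      have h2 := finrank_inf_ker (D i) (QuadraticMap.polarBilin Q z)
      have h3 := finrank_inf_ker (D i ⊓ LinearMap.ker (QuadraticMap.polarBilin Q z)) (QuadraticMap.polarBilin Q f)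
      rw [h.dec.dim] at h2
      omega)
  have hzx : polar Q z x = 0 := hx.1.2
  have hfx : polar Q f x = 0 := hx.2
  obtain ⟨s, hs, -, hsx⟩ := h.exists_act hz hQz hx.1.1 hzx
  have e : s.1 a - a = polar Q z a • x + (-(polar Q x a)) • z := by
    rw [hsx, hQx]; module
  refine ⟨s, hs, fun e1 => ?_, ?_⟩
  · rw [e1, sub_self] at e
    have h1 := congrArg (polar Q f) e
    rw [polar_zero_right, polar_add_right, polar_smul_r', polar_smul_r', hfx, polar_comm Q f z, hzf] at h1
    have h2 : polar Q x a = 0 := by linear_combination h1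
    rw [h2, neg_zero, zero_smul, add_zero, eq_comm, smul_eq_zero] at e
    exact e.elim hza hx0
  · rw [e, quad_add', quad_smul', quad_smul', hQx, hQz, polar_smul_l', polar_smul_r', polar_comm Q x z, hzx]; ring

/-- Both properties, with one constant for all members. -/
theorem Setting.exists_local : ∃ κ : F, ∀ i, ∀ a ∈ D i, a ≠ 0 →
    Diff D M κ i a ∧ ∀ v ∈ D i, v ∉ F ∙ a → Moves D M i a v := by
  rcases h.size with ⟨hk, h5⟩ | h5
  swap
  · exact ⟨1, fun i a ha ha0 => ⟨diff_big h h5 ha ha0 1, fun v hv hav => moves_big h h5 ha hv hav⟩⟩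
  subst hk
  set i₀ : Fin t := ⟨0, by have := h.three; omega⟩
  obtain ⟨d, hd, hd0, hQd⟩ := h.exists_singular i₀
  obtain ⟨f, hf, hdf, hQf⟩ := h.exists_partner hd hd0 hQd
  obtain ⟨w, hw, hdw, hfw, hQw⟩ := h.exists_aniso hd hf hQd hQf hdf
  have hF : Frame Q D i₀ d f w (Q w) := by
    refine ⟨hd, hf, hw, hQd, hQf, rfl, hdf, hdw, hfw, hQw, fun x hx => ?_⟩
    have hfd : polar Q f d = 1 := by rw [polar_comm, hdf]
    have hwd : polar Q w d = 0 := by rw [polar_comm, hdw]
    have hwf : polar Q w f = 0 := by rw [polar_comm, hfw]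
    have hli : LinearIndependent F ![d, f, w] := Fintype.linearIndependent_iff.2 fun g hg => by
      rw [Fin.sum_univ_three] at hg
      simp only [Matrix.cons_val_zero, Matrix.cons_val_one, Matrix.cons_val] at hg
      have e0 := congrArg (polar Q f) hg
      have e1 := congrArg (polar Q d) hg
      have e2 := congrArg (polar Q w) hg
      simp only [polar_add_right, polar_smul_r', polar_self', hQd, hQf, hdf, hdw, hfw, hfd, hwd, hwf,
        polar_zero_right, mul_zero, add_zero, zero_add, mul_one] at e0 e1 e2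
      intro j
      fin_cases j
      · exact e0
      · exact e1
      · exact (mul_eq_zero.1 e2).resolve_right (mul_ne_zero h.two hQw)
    have hle : Submodule.span F (Set.range ![d, f, w]) ≤ D i₀ := Submodule.span_le.2 <| by
      rintro _ ⟨j, rfl⟩
      fin_cases j <;> assumption
    have heq := Submodule.eq_of_le_of_finrank_eq hle (by rw [finrank_span_eq_card hli, h.dec.dim, Fintype.card_fin])
    obtain ⟨g, hg⟩ := (Submodule.mem_span_range_iff_exists_fun F).1 (heq.ge hx)
    rw [Fin.sum_univ_three] at hg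
    simp only [Matrix.cons_val_zero, Matrix.cons_val_one, Matrix.cons_val] at hg
    have e0 := congrArg (polar Q f) hg
    have e1 := congrArg (polar Q d) hg
    have e2 := congrArg (polar Q w) hg
    simp only [polar_add_right, polar_smul_r', polar_self', hQd, hQf, hdf, hdw, hfw, hfd, hwd, hwf,
      mul_zero, add_zero, zero_add, mul_one] at e0 e1 e2
    rw [← e0, ← e1, ← e2, mul_div_cancel_right₀ _ (mul_ne_zero h.two hQw), hg]
  have hall : ∀ i, ∃ d' f' w', Frame Q D i d' f' w' (Q w) := by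
    intro i
    by_cases hi : i₀ = i
    · exact ⟨d, f, w, hi ▸ hF⟩
    obtain ⟨l, hl0, hli⟩ : ∃ l, l ≠ i₀ ∧ l ≠ i := by
      by_contra hc
      push Not at hc
      have : (Finset.univ : Finset (Fin t)) ⊆ {i₀, i} := fun l _ => by
        by_cases hl : l = i₀
        · simp [hl]
        · simp [hc l hl]
      have := (Finset.card_le_card this).trans Finset.card_le_two
      rw [Finset.card_univ, Fintype.card_fin] at this
      have := h.three
      omega
    obtain ⟨e, -, hei, -, -, -⟩ := h.cyc i₀ i l hi hli.symm hl0.symm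
    exact ⟨_, _, _, hF.map (map_eq_of h.dec hei)⟩
  refine ⟨Q w, fun i a ha ha0 => ?_⟩
  obtain ⟨d', f', w', hF'⟩ := hall i
  exact ⟨diff_conic h h5 hF' ha ha0, fun v hv hav => moves_conic h h5 hF' ha ha0 hv hav⟩

end CfsgLib.Classical.OrthDecompMax
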