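import Cfsg.Agent.Lib.Classical.OrthDecompMax.Local

/-!
# Overgroups of stabilisers of orthogonal decompositions
-/

set_option autoImplicit false
set_option linter.unusedSectionVars false

namespace CfsgLib.Classical.OrthDecompMax

open Module QuadraticMap CfsgLib.Orth CfsgLib.Classical

variable {F V : Type*} [Field F] [Fintype F] [AddCommGroup V] [Module F V] [FiniteDimensional F V]
  {Q : QuadraticForm F V} {t k : ℕ} {D : Fin t → Submodule F V} {M : Subgroup (orthGroup Q)}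

variable (h : Setting Q D k M)
include h

/-- A singular difference of a vector and its image is again a vector with the same parameter. -/
theorem Setting.pair_diff {d u : V} (hu : Pair M d u) {s : orthGroup Q} (hs : s ∈ M) (hsu : s.1 u = u)
    (hb : Q (s.1 d - d) = 0) : Pair M (s.1 d - d) u := by
  set b := s.1 d - d with hbd
  have hsd : s.1 d = d + b := by rw [hbd]; abel
  have hu' : Pair M (d + b) u := by
    have := hu.map hs
    rwa [hsu, hsd] at this
  have hdb : polar Q d b = 0 := by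
    have h1 := hu'.1
    rw [quad_add', hu.1, hb] at h1
    linear_combination h1
  have hbu : polar Q b u = 0 := by
    have h1 := hu'.2.1
    rwa [polar_add_left, hu.2.1, zero_add] at h1
  refine ⟨hb, hbu, fun c g hg => ?_⟩
  have two_half : (2 : F) * (c / 2) = c := mul_div_cancel₀ c h.two
  have key : ∀ e : F, ∃ p q : orthGroup Q, p * q ∈ M ∧ IsSiegel p b (e • u) ∧ IsSiegel q d ((e * e * Q u) • b) := by
    intro e
    obtain ⟨g₁, hg₁⟩ := exists_isSiegel h.nondeg hu'.1
      (show polar Q (d + b) (e • u) = 0 by rw [polar_smul_r', hu'.2.1, mul_zero])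
    obtain ⟨g₂, hg₂⟩ := exists_isSiegel h.nondeg hu.1
      (show polar Q d ((-e) • u) = 0 by rw [polar_smul_r', hu.2.1, mul_zero])
    obtain ⟨p, hp⟩ := exists_isSiegel h.nondeg hb (show polar Q b (e • u) = 0 by rw [polar_smul_r', hbu, mul_zero])
    obtain ⟨q, hq⟩ := exists_isSiegel h.nondeg hu.1
      (show polar Q d ((e * e * Q u) • b) = 0 by rw [polar_smul_r', hdb, mul_zero])
    refine ⟨p, q, ?_, hp, hq⟩
    have heq : g₁ * g₂ = p * q := Subtype.ext (LinearEquiv.ext fun z => by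
      show g₁.1 (g₂.1 z) = p.1 (q.1 z)
      rw [hg₁.2.2, hg₂.2.2, hp.2.2, hq.2.2]
      simp only [polar_add_right, polar_smul_r', polar_smul_l', polar_add_left, polar_self', quad_smul', hu.1, hb,
        hdb, hbu, hu.2.1, polar_comm Q b d, polar_comm Q u d, polar_comm Q u b]
      module)
    rw [← heq]
    exact mul_mem (hu'.2.2 e g₁ hg₁) (hu.2.2 (-e) g₂ hg₂)
  obtain ⟨p, q, hpq, hp, hq⟩ := key (c / 2)
  obtain ⟨p', q', hpq', hp', hq'⟩ := key (-(c / 2))
  rw [neg_mul_neg] at hq'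
  obtain rfl := hq.unique hq'
  have h1 : IsSiegel (p' * p) b ((-(c / 2)) • u + (c / 2) • u) := hp'.mul hp
  rw [← add_smul, neg_add_cancel, zero_smul] at h1
  have h2 : p'⁻¹ = p := (eq_inv_of_mul_eq_one_right (h1.unique (isSiegel_one hb))).symm
  have h3 := hp.mul hp
  rw [← add_smul, ← two_mul, two_half] at h3
  rw [hg.unique h3]
  have h4 := mul_mem hpq (inv_mem hpq')
  rwa [mul_inv_rev, mul_assoc, ← mul_assoc q, mul_inv_cancel, one_mul, h2] at h4

omit h in
theorem act_fix {i j : Fin t} (hdec : MemberDecomp (QuadraticMap.polarBilin Q) D k) {s : orthGroup Q}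
    (hs : Act D M i s) (hij : i ≠ j) {x : V} (hx : x ∈ D j) : s.1 x = x :=
  hs.2.2 x fun _ hy => orth_polar hdec hij hy hx

/-- A parameter in a member orthogonal to which the vector lies. -/
theorem Setting.rel_of_off {d w : V} {l m : Fin t} (hw : Pair M d w) (hw0 : w ≠ 0) (hwl : w ∈ D l) (hml : m ≠ l)
    (hl : h.dec.comp l d = 0) (hm : h.dec.comp m d ≠ 0) : Rel D M l m := by
  obtain ⟨z, hz, hz0, hQz⟩ := h.exists_singular l
  have hfix : ∀ y ∈ D l, polar Q y d = 0 := fun y hy => by rw [← comp_polar h.dec hy, hl, polar_zero_right]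
  exact h.rel_of_singular hml.symm hz hz0 (h.swap (h.all_of_one hw hw0 hwl hfix z hz) hQz) hm

theorem Setting.act_diff {i : Fin t} {s : orthGroup Q} (hs : Act D M i s) (x : V) :
    s.1 x - x = s.1 (h.dec.comp i x) - h.dec.comp i x ∧ s.1 (h.dec.comp i x) - h.dec.comp i x ∈ D i :=
  ⟨by rw [hs.apply_comp h.dec x, add_sub_cancel_left],
    (D i).sub_mem (hs.2.1 _ (h.dec.comp_mem i x)) (h.dec.comp_mem i x)⟩

/-- A parameter in a member, two other members in the support. -/
theorem Setting.rel_of_two {κ : F} {d w : V} {l m m' : Fin t} (hw : Pair M d w) (hw0 : w ≠ 0) (hwl : w ∈ D l)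
    (hml : m ≠ l) (hm'l : m' ≠ l) (hm : h.dec.comp m d ≠ 0)
    (hD : Diff D M κ m (h.dec.comp m d))
    (hD' : m ≠ m' ∧ Diff D M κ m' (h.dec.comp m' d) ∨
      ∃ s, Act D M m s ∧ s.1 (h.dec.comp m d) ≠ h.dec.comp m d ∧ Q (s.1 (h.dec.comp m d) - h.dec.comp m d) = 0) :
    ∃ i j, i ≠ j ∧ Rel D M i j := by
  have single : ∀ {m}, m ≠ l → (∃ s, Act D M m s ∧ s.1 (h.dec.comp m d) ≠ h.dec.comp m d ∧
      Q (s.1 (h.dec.comp m d) - h.dec.comp m d) = 0) → ∃ i j, i ≠ j ∧ Rel D M i j := by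
    rintro m hml ⟨s, hs, hne, hQ⟩
    obtain ⟨e, hmem⟩ := h.act_diff hs d
    have h1 := h.pair_diff hw hs.1 (act_fix h.dec hs hml hwl) (by rw [e]; exact hQ)
    rw [e] at h1
    exact ⟨m, l, hml, h.rel_of_singular hml hmem (sub_ne_zero.2 hne) h1 (by rw [h.dec.comp_self hwl]; exact hw0)⟩
  rcases hD' with ⟨hmm', hD'⟩ | hs
  swap
  · exact single hml hs
  rcases hD with hs | ⟨hκ, ⟨c, hc, s, hs, hQs⟩, -⟩
  · exact single hml hs
  rcases hD' with hs' | ⟨-, -, hv⟩
  · exact single hm'l hs'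
  obtain ⟨s', hs', hQs'⟩ := hv c hc
  obtain ⟨e, hmem⟩ := h.act_diff hs d
  obtain ⟨e', hmem'⟩ := h.act_diff hs' d
  set δ := s.1 (h.dec.comp m d) - h.dec.comp m d
  set δ' := s'.1 (h.dec.comp m' d) - h.dec.comp m' d
  have hb : (s * s').1 d - d = δ + δ' := by
    show s.1 (s'.1 d) - d = _
    rw [sub_eq_iff_eq_add.1 e', map_add, sub_eq_iff_eq_add.1 e, act_fix h.dec hs hmm' hmem']
    abel
  have hQb : Q (δ + δ') = 0 := by
    rw [quad_add', hQs, hQs', orth_polar h.dec hmm' hmem hmem']; ring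
  have h1 := h.pair_diff hw (mul_mem hs.1 hs'.1) (by
    show s.1 (s'.1 w) = w
    rw [act_fix h.dec hs' hm'l hwl, act_fix h.dec hs hml hwl]) (by rw [hb]; exact hQb)
  rw [hb] at h1
  refine ⟨l, m, hml.symm, h.rel_of_off h1 hw0 hwl hml ?_ ?_⟩
  · rw [map_add, h.dec.comp_other hml.symm hmem, h.dec.comp_other hm'l.symm hmem', add_zero]
  · rw [map_add, h.dec.comp_self hmem, h.dec.comp_other hmm' hmem', add_zero]
    intro e0
    rw [e0, map_zero, eq_comm, neg_eq_zero, mul_eq_zero] at hQs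
    rcases hQs with e1 | e1
    · exact hκ (by rw [e1, zero_mul]; exact IsSquare.zero)
    · exact mul_ne_zero hc hc e1

/-- A parameter in one member. -/
theorem Setting.rel_of_single (hswp : SwapIn D M) {d w : V} {l m : Fin t} (hw : Pair M d w) (hw0 : w ≠ 0) (hwl : w ∈ D l)
    (hml : m ≠ l) (hm : h.dec.comp m d ≠ 0) : ∃ i j, i ≠ j ∧ Rel D M i j := by
  obtain ⟨κ, hloc⟩ := h.exists_local
  by_cases hl : h.dec.comp l d = 0
  · exact ⟨l, m, hml.symm, h.rel_of_off hw hw0 hwl hml hl hm⟩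
  by_cases hQw : Q w = 0
  · exact ⟨l, m, hml.symm, h.rel_of_singular hml.symm hwl hw0 (h.swap hw hQw) hm⟩
  have hDm := (hloc m _ (h.dec.comp_mem m d) hm).1
  by_cases hm2 : ∃ m', m' ≠ l ∧ m' ≠ m ∧ h.dec.comp m' d ≠ 0
  · obtain ⟨m', hm'l, hm'm, hm'⟩ := hm2
    exact h.rel_of_two hw hw0 hwl hml hm'l hm hDm (Or.inl ⟨hm'm.symm, (hloc m' _ (h.dec.comp_mem m' d) hm').1⟩)
  push Not at hm2
  rcases h.size with ⟨-, h5⟩ | h5
  swap
  · refine h.rel_of_two (m' := m) hw hw0 hwl hml hml hm hDm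
      (Or.inr ((diff_big h h5 (h.dec.comp_mem m d) hm 0).resolve_right fun e => e.1 ?_))
    rw [zero_mul]; exact IsSquare.zero
  rcases hDm with hs | ⟨hκ, -⟩
  · exact h.rel_of_two (κ := κ) (m' := m) hw hw0 hwl hml hml hm (Or.inl hs) (Or.inr hs)
  set dl := h.dec.comp l d with hdl
  set dm := h.dec.comp m d with hdm
  have hdsum : d = dl + dm := by
    conv_lhs => rw [← h.dec.sum_comp d]
    rw [Finset.sum_eq_add_of_mem l m (Finset.mem_univ l) (Finset.mem_univ m) hml.symm
      fun x _ hx => hm2 x hx.1 hx.2]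
  have hlm : polar Q dl dm = 0 := orth_polar h.dec hml.symm (h.dec.comp_mem l d) (h.dec.comp_mem m d)
  have hQdm : Q dm ≠ 0 := fun e => hκ (by rw [e, mul_zero]; exact IsSquare.zero)
  have hQdl : Q dl = -Q dm := by
    have h1 := hw.1
    rw [hdsum, quad_add', hlm] at h1
    linear_combination h1
  obtain ⟨p, hpl, hpm⟩ : ∃ p, p ≠ l ∧ p ≠ m := by
    by_contra hc
    push Not at hc
    have : (Finset.univ : Finset (Fin t)) ⊆ {l, m} := fun x _ => by
      by_cases hx : x = l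
      · simp [hx]
      · simp [hc x hx]
    have := (Finset.card_le_card this).trans Finset.card_le_two
    rw [Finset.card_univ, Fintype.card_fin] at this
    have := h.three
    omega
  obtain ⟨e, he, hem, hefix⟩ := hswp m p hpm.symm
  set y := e.1 dm with hy
  have hyp : y ∈ D p := hem dm (h.dec.comp_mem m d)
  have hy0 : y ≠ 0 := by rw [hy]; exact (map_ne_zero_iff _ e.1.injective).2 hm
  set D' := dl + y with hD'
  have hew : ∀ z ∈ D l, e.1 z = z := hefix l hml.symm hpl.symm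
  have hp' : Pair M D' w := by
    have h1 := hw.map he
    rwa [hdsum, map_add, hew dl (h.dec.comp_mem l d), hew w hwl] at h1
  have hwdl : polar Q w dl = 0 := by rw [comp_polar h.dec hwl, polar_comm]; exact hw.2.1
  have hwy : polar Q w y = 0 := orth_polar h.dec hpl.symm hwl hyp
  have hdD' : polar Q d D' = 2 * Q dl := by
    rw [hdsum, hD', polar_add_left, polar_add_right, polar_add_right, polar_self', polar_comm Q dm dl, hlm,
      orth_polar h.dec hpl.symm (h.dec.comp_mem l d) hyp, orth_polar h.dec hpm.symm (h.dec.comp_mem m d) hyp]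
    ring
  set e0 := polar Q d D' with he0d
  have he0 : e0 ≠ 0 := by rw [hdD', hQdl]; exact mul_ne_zero h.two (neg_ne_zero.2 hQdm)
  obtain ⟨τ, hτ0, hτ⟩ := pick h5 (-(1 / (Q w * e0)))
  obtain ⟨g, hg⟩ := exists_isSiegel h.nondeg hw.1
    (show polar Q d (τ • w) = 0 by rw [polar_smul_r', hw.2.1, mul_zero])
  have hgM : g ∈ M := hw.2.2 τ g hg
  have hd2 : g.1 D' = D' + (e0 * τ) • w + (-(τ * τ * Q w * e0)) • d := by
    rw [hg.2.2, ← he0d, quad_smul', polar_smul_l', show polar Q w D' = 0 by rw [hD', polar_add_right, hwdl, hwy, add_zero]]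
    module
  have hu2 : g.1 w = w + (-(2 * τ * Q w)) • d := by
    rw [hg.2.2, hw.2.1, polar_smul_l', polar_self']
    module
  have hp2 := hp'.map hgM
  have cl : ∀ {i}, h.dec.comp i w = (if i = l then w else 0) := fun {i} => by
    split_ifs with hi
    · subst hi; exact h.dec.comp_self hwl
    · exact h.dec.comp_other hi hwl
  have cD : ∀ {i}, h.dec.comp i D' = (if i = l then dl else 0) + (if i = p then y else 0) := fun {i} => by
    rw [hD', map_add]
    congr 1 <;> split_ifs with hi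
    · subst hi; exact h.dec.comp_self (h.dec.comp_mem _ d)
    · exact h.dec.comp_other hi (h.dec.comp_mem l d)
    · subst hi; exact h.dec.comp_self hyp
    · exact h.dec.comp_other hi hyp
  set d2 := g.1 D' with hd2d
  set u2 := g.1 w with hu2d
  have h2l : h.dec.comp l d2 = (1 - τ * τ * Q w * e0) • dl + (e0 * τ) • w := by
    rw [hd2, map_add, map_add, map_smul, map_smul, cD, cl, if_pos rfl, if_pos rfl, if_neg hpl.symm, add_zero, ← hdl]
    module
  have h2u : h.dec.comp l u2 = w + (-(2 * τ * Q w)) • dl := by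
    rw [hu2, map_add, map_smul, cl, if_pos rfl, ← hdl]
  have h2m : h.dec.comp m d2 = (-(τ * τ * Q w * e0)) • dm := by
    rw [hd2, map_add, map_add, map_smul, map_smul, cD, cl, if_neg hml, if_neg hml, if_neg hpm.symm, ← hdm]
    simp
  have h2p : h.dec.comp p d2 = y := by
    rw [hd2, map_add, map_add, map_smul, map_smul, cD, cl, if_neg hpl, if_neg hpl, if_pos rfl, hm2 p hpl hpm]
    simp
  have hnd : h.dec.comp l u2 ∉ F ∙ h.dec.comp l d2 := by
    intro hmem
    obtain ⟨μ, hμ⟩ := Submodule.mem_span_singleton.1 hmem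
    rw [h2l, h2u] at hμ
    have e1 := congrArg (polar Q w) hμ
    have e2 := congrArg (polar Q dl) hμ
    simp only [polar_add_right, polar_smul_r', polar_self', hwdl, polar_comm Q dl w] at e1 e2
    have hQl : Q dl ≠ 0 := by rw [hQdl]; exact neg_ne_zero.2 hQdm
    have f1 : (2 * Q w) * (μ * e0 * τ - 1) = 0 := by linear_combination e1
    have f2 : (2 * Q dl) * (μ * (1 - τ * τ * Q w * e0) + 2 * τ * Q w) = 0 := by linear_combination e2
    have g1 := (mul_eq_zero.1 f1).resolve_left (mul_ne_zero h.two hQw)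
    have g2 := (mul_eq_zero.1 f2).resolve_left (mul_ne_zero h.two hQl)
    refine hτ ?_
    field_simp
    linear_combination e0 * τ * g2 - (1 - τ * τ * Q w * e0) * g1
  obtain ⟨s, hs, hs1, hs2⟩ : Moves D M l (h.dec.comp l d2) (h.dec.comp l u2) := by
    refine (hloc l _ (h.dec.comp_mem l d2) fun e0' => ?_).2 _ (h.dec.comp_mem l u2) hnd
    rw [h2l] at e0'
    have e1 := congrArg (polar Q w) e0'
    simp only [polar_add_right, polar_smul_r', polar_self', hwdl, polar_zero_right] at e1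
    exact mul_ne_zero (mul_ne_zero he0 hτ0) (mul_ne_zero h.two hQw) (by linear_combination e1)
  obtain ⟨ed, -⟩ := h.act_diff hs d2
  obtain ⟨eu, hmem⟩ := h.act_diff hs u2
  have h3 := hp2.map hs.1
  rw [sub_eq_iff_eq_add.1 ed, hs1, sub_self, zero_add] at h3
  have h4 := h.sub h3 hp2
  rw [eu] at h4
  have hm2' : h.dec.comp m d2 ≠ 0 := by
    rw [h2m]
    exact smul_ne_zero (neg_ne_zero.2 (mul_ne_zero (mul_ne_zero (mul_ne_zero hτ0 hτ0) hQw) he0)) hm
  have hp2' : h.dec.comp p d2 ≠ 0 := by rw [h2p]; exact hy0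
  exact h.rel_of_two h4 (sub_ne_zero.2 hs2) hmem hml hpl hm2' (hloc m _ (h.dec.comp_mem m d2) hm2').1
    (Or.inl ⟨hpm.symm, (hloc p _ (h.dec.comp_mem p d2) hp2').1⟩)

/-- A parameter that is not a multiple of the vector in some member. -/
theorem Setting.rel_of_nondiag (hswp : SwapIn D M) {d u : V} {l m : Fin t} (hu : Pair M d u) (hml : m ≠ l)
    (hm : h.dec.comp m d ≠ 0) (hnd : h.dec.comp l u ∉ F ∙ h.dec.comp l d) : ∃ i j, i ≠ j ∧ Rel D M i j := by
  obtain ⟨s, hs, hs1, hs2⟩ : Moves D M l (h.dec.comp l d) (h.dec.comp l u) := by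
    rcases eq_or_ne (h.dec.comp l d) 0 with e | e
    · obtain ⟨s, hs, hmv⟩ := h.exists_moving (h.dec.comp_mem l u) fun e' => hnd (by rw [e']; exact zero_mem _)
      exact ⟨s, hs, by rw [e, map_zero], hmv⟩
    · obtain ⟨κ, hloc⟩ := h.exists_local
      exact (hloc l _ (h.dec.comp_mem l d) e).2 _ (h.dec.comp_mem l u) hnd
  obtain ⟨ed, -⟩ := h.act_diff hs d
  obtain ⟨eu, hmem⟩ := h.act_diff hs u
  have h3 := hu.map hs.1
  rw [sub_eq_iff_eq_add.1 ed, hs1, sub_self, zero_add] at h3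
  have h4 := h.sub h3 hu
  rw [eu] at h4
  exact h.rel_of_single hswp h4 (sub_ne_zero.2 hs2) hmem hml hm

/-- A Siegel element with two vectors that do not lie in one member. -/
theorem Setting.rel_of_pair (hswp : SwapIn D M) {d u : V} (hu : Pair M d u) (hd0 : d ≠ 0) (hQu : Q u ≠ 0)
    (hnot : ∀ i, d ∈ D i → u ∉ D i) : ∃ i j, i ≠ j ∧ Rel D M i j := by
  by_cases hone : ∃ i, d ∈ D i
  · obtain ⟨i, hi⟩ := hone
    obtain ⟨j, hji, hj⟩ : ∃ j, j ≠ i ∧ h.dec.comp j u ≠ 0 := by
      by_contra hc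
      push Not at hc
      refine hnot i hi ?_
      rw [← h.dec.sum_comp u, Finset.sum_eq_single i (fun j _ hj => hc j hj) (by simp)]
      exact h.dec.comp_mem i u
    exact ⟨i, j, hji.symm, h.rel_of_singular hji.symm hi hd0 hu hj⟩
  have hother : ∀ l, ∃ m, m ≠ l ∧ h.dec.comp m d ≠ 0 := by
    intro l
    by_contra hc
    push Not at hc
    refine hone ⟨l, ?_⟩
    rw [← h.dec.sum_comp d, Finset.sum_eq_single l (fun j _ hj => hc j hj) (by simp)]
    exact h.dec.comp_mem l d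
  by_cases hdiag : ∀ l, h.dec.comp l u ∈ F ∙ h.dec.comp l d
  swap
  · push Not at hdiag
    obtain ⟨l, hl⟩ := hdiag
    obtain ⟨m, hml, hm⟩ := hother l
    exact h.rel_of_nondiag hswp hu hml hm hl
  obtain ⟨l, -, hl⟩ := hother ⟨0, by have := h.three; omega⟩
  obtain ⟨lam, hlam⟩ := Submodule.mem_span_singleton.1 (hdiag l)
  set u' := u + (-lam) • d with hu'
  have hu'P : Pair M d u' := h.add hu (pair_self hu.1 _)
  clear_value u'
  have hl0 : h.dec.comp l u' = 0 := by rw [hu', map_add, map_smul, ← hlam]; module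
  have hQu' : Q u' ≠ 0 := by
    rwa [hu', quad_add', quad_smul', polar_smul_r', hu.1, polar_comm, hu.2.1, mul_zero, mul_zero, add_zero, add_zero]
  obtain ⟨j, hj⟩ : ∃ j, h.dec.comp j u' ≠ 0 := by
    by_contra hc
    push Not at hc
    have : u' = 0 := h.dec.ext_comp fun j => by rw [map_zero]; exact hc j
    exact hQu' (by rw [this, map_zero])
  have hjl : j ≠ l := fun e => hj (e ▸ hl0)
  have hju : h.dec.comp j u' ∈ F ∙ h.dec.comp j d := by
    rw [hu', map_add, map_smul]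
    exact add_mem (hdiag j) (Submodule.smul_mem _ _ (Submodule.mem_span_singleton_self _))
  obtain ⟨η, hη⟩ := Submodule.mem_span_singleton.1 hju
  have hjd : h.dec.comp j d ≠ 0 := fun e => hj (by rw [← hη, e, smul_zero])
  obtain ⟨κ, hloc⟩ := h.exists_local
  have hsu' : ∀ s, Act D M l s → s.1 u' = u' := fun s hs =>
    hs.2.2 u' fun y hy => by rw [← comp_polar h.dec hy, hl0, polar_zero_right]
  have hsplit : (∃ s, Act D M l s ∧ s.1 (h.dec.comp l d) ≠ h.dec.comp l d ∧
      Q (s.1 (h.dec.comp l d) - h.dec.comp l d) = 0) ∨ (5 ≤ Fintype.card F ∧ ¬ IsSquare (κ * Q (h.dec.comp l d)) ∧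
      ∀ c : F, c ≠ 0 → ∃ s, Act D M l s ∧ Q (s.1 (h.dec.comp l d) - h.dec.comp l d) = κ * (c * c)) := by
    rcases h.size with ⟨-, h5⟩ | h5
    · exact (hloc l _ (h.dec.comp_mem l d) hl).1.imp_right fun e => ⟨h5, e.1, e.2.2⟩
    · refine Or.inl ((diff_big h h5 (h.dec.comp_mem l d) hl 0).resolve_right fun e => e.1 ?_)
      rw [zero_mul]; exact IsSquare.zero
  rcases hsplit with ⟨s, hs, hne, hQ⟩ | ⟨h5, hκ, hv⟩
  · obtain ⟨e, hmem⟩ := h.act_diff hs d
    have h1 := h.pair_diff hu'P hs.1 (hsu' s hs) (by rw [e]; exact hQ)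
    rw [e] at h1
    exact ⟨l, j, hjl.symm, h.rel_of_singular hjl.symm hmem (sub_ne_zero.2 hne) h1 hj⟩
  obtain ⟨s, hs, hQs⟩ := hv 1 one_ne_zero
  rw [mul_one, mul_one] at hQs
  obtain ⟨e, hmem⟩ := h.act_diff hs d
  set a := h.dec.comp l d with had
  set δ := s.1 a - a with hδ
  have hsd : s.1 d = d + δ := by rw [← e]; abel
  have haδ : polar Q a δ = -κ := by
    have h1 : Q (a + δ) = Q a := by rw [hδ, add_sub_cancel, apply_quad]
    rw [quad_add', hQs] at h1
    linear_combination h1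
  have hdδ : polar Q d δ = -κ := by rw [polar_comm, ← comp_polar h.dec hmem, polar_comm]; exact haδ
  have hu'δ : polar Q u' δ = 0 := by rw [polar_comm, ← comp_polar h.dec hmem, hl0, polar_zero_right]
  set e0 := polar Q d (s.1 d) with he0d
  have he0 : e0 = -κ := by rw [he0d, hsd, polar_add_right, polar_self', hu.1, hdδ]; ring
  obtain ⟨τ, hτ0, hτ⟩ : ∃ τ : F, τ ≠ 0 ∧ 1 + e0 * η * τ - Q u' * e0 * (τ * τ) ≠ 0 := by
    have hκ0 : κ ≠ 0 := fun e' => hκ (by rw [e', zero_mul]; exact IsSquare.zero)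
    by_cases hr : ∃ τ : F, τ ≠ 0 ∧ 1 + e0 * η * τ - Q u' * e0 * (τ * τ) = 0
    · obtain ⟨r, hr0, hr⟩ := hr
      obtain ⟨τ, hτ0, h1, h2⟩ := pick_two h5 r (-(1 / (Q u' * e0 * r)))
      refine ⟨τ, hτ0, fun h3 => ?_⟩
      have hc : Q u' * e0 ≠ 0 := mul_ne_zero hQu' (by rw [he0]; exact neg_ne_zero.2 hκ0)
      have h4 : (τ - r) * (e0 * η - Q u' * e0 * (τ + r)) = 0 := by linear_combination h3 - hr
      have h6 := (mul_eq_zero.1 h4).resolve_left (sub_ne_zero.2 h1)
      refine h2 ?_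
      have he0' : e0 ≠ 0 := right_ne_zero_of_mul hc
      rw [← neg_div, eq_div_iff (mul_ne_zero hc hr0)]
      linear_combination hr - r * h6
    · push Not at hr
      exact ⟨1, one_ne_zero, hr 1 one_ne_zero⟩
  obtain ⟨g, hg⟩ := exists_isSiegel h.nondeg hu.1
    (show polar Q d (τ • u') = 0 by rw [polar_smul_r', hu'P.2.1, mul_zero])
  have hgM : g ∈ M := hu'P.2.2 τ g hg
  have hp' : Pair M (s.1 d) u' := by
    have h1 := hu'P.map hs.1
    rwa [hsu' s hs] at h1
  have hp2 := hp'.map hgM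
  have hd2 : g.1 (s.1 d) = s.1 d + (e0 * τ) • u' + (-(τ * τ * Q u' * e0)) • d := by
    rw [hg.2.2, ← he0d, quad_smul', polar_smul_l', hsd, polar_add_right, hu'δ, polar_comm Q u' d, hu'P.2.1]
    module
  have hu2 : g.1 u' = u' + (-(2 * τ * Q u')) • d := by
    rw [hg.2.2, hu'P.2.1, polar_smul_l', polar_self']
    module
  have h2j : h.dec.comp j (g.1 (s.1 d)) = (1 + e0 * η * τ - Q u' * e0 * (τ * τ)) • h.dec.comp j d := by
    rw [hd2, hsd, map_add, map_add, map_add, map_smul, map_smul, h.dec.comp_other hjl hmem, ← hη]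
    module
  refine h.rel_of_nondiag hswp (m := j) hp2 hjl (by rw [h2j]; exact smul_ne_zero hτ hjd) fun hmem2 => ?_
  obtain ⟨μ, hμ⟩ := Submodule.mem_span_singleton.1 hmem2
  rw [hd2, hu2, hsd, map_add, map_add, map_add, map_add, map_smul, map_smul, map_smul, h.dec.comp_self hmem, hl0,
    ← had] at hμ
  have hμ0 : μ ≠ 0 := by
    rintro rfl
    rw [zero_smul, zero_add, eq_comm, smul_eq_zero] at hμ
    exact hμ.elim (neg_ne_zero.2 (mul_ne_zero (mul_ne_zero h.two hτ0) hQu')) hl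
  obtain ⟨ν, hν⟩ : ∃ ν : F, δ = ν • a := by
    refine ⟨μ⁻¹ * (-(2 * τ * Q u')) - (1 - τ * τ * Q u' * e0), ?_⟩
    have h1 := congrArg (fun z => μ⁻¹ • z) hμ
    simp only [inv_smul_smul₀ hμ0, smul_zero, zero_add, smul_smul] at h1
    rw [sub_smul, ← h1]
    module
  rw [hν, polar_smul_r', polar_self'] at haδ
  rw [hν, quad_smul'] at hQs
  have hν0 : ν ≠ 0 := by
    rintro rfl
    rw [zero_mul, zero_mul] at hQs
    exact hκ (by rw [← hQs, zero_mul]; exact IsSquare.zero)
  exact hκ ⟨ν * Q a, by rw [← hQs]; ring⟩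

/-- An element moving some member off the decomposition. -/
theorem Setting.rel_of_not_sym (hswp : SwapIn D M) {g : orthGroup Q} (hg : g ∈ M)
    (hne : ∃ i, ∀ j, ∃ x ∈ D i, g.1 x ∉ D j) : ∃ i j, i ≠ j ∧ Rel D M i j := by
  by_contra hc
  obtain ⟨i, hi⟩ := hne
  have hone : ∀ d ∈ D i, Q d = 0 → d ≠ 0 → ∃ j, g.1 d ∈ D j ∧
      ∀ u ∈ D i, polar Q d u = 0 → Q u ≠ 0 → g.1 u ∈ D j := by
    intro d hd hQd hd0
    have hall : ∀ u ∈ D i, polar Q d u = 0 → Q u ≠ 0 → ∃ j, g.1 d ∈ D j ∧ g.1 u ∈ D j := by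
      intro u hu hdu hQu
      by_contra hno
      push Not at hno
      exact hc (h.rel_of_pair hswp ((h.pair_block hd hQd hu hdu).map hg) ((map_ne_zero_iff _ g.1.injective).2 hd0)
        (by rwa [apply_quad]) hno)
    obtain ⟨f, hf, hdf, hQf⟩ := h.exists_partner hd hd0 hQd
    obtain ⟨u₀, hu₀, hdu₀, -, hQu₀⟩ := h.exists_aniso hd hf hQd hQf hdf
    obtain ⟨j, hj, -⟩ := hall u₀ hu₀ hdu₀ hQu₀
    refine ⟨j, hj, fun u hu hdu hQu => ?_⟩
    obtain ⟨j', hj', hju⟩ := hall u hu hdu hQu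
    obtain rfl : j' = j := by
      by_contra hne
      have := h.dec.comp_other hne hj
      rw [h.dec.comp_self hj'] at this
      exact hd0 (g.1.injective (this.trans (map_zero g.1).symm))
    exact hju
  obtain ⟨d₀, hd₀, hd₀0, hQd₀⟩ := h.exists_singular i
  obtain ⟨j, hj, -⟩ := hone d₀ hd₀ hQd₀ hd₀0
  have same : ∀ a b, a ∈ D i → b ∈ D i → Q a = 0 → Q b = 0 → polar Q a b ≠ 0 → g.1 a ∈ D j → g.1 b ∈ D j := by
    intro a b ha hb hQa hQb hab haj
    have ha0 : a ≠ 0 := fun e => hab (by rw [e, polar_zero_left])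
    have hb0 : b ≠ 0 := fun e => hab (by rw [e, polar_zero_right])
    set b' := (polar Q a b)⁻¹ • b with hb'
    obtain ⟨w, hw, haw, hbw, hQw⟩ := h.exists_aniso ha ((D i).smul_mem _ hb) hQa
      (show Q b' = 0 by rw [hb', quad_smul', hQb, mul_zero])
      (show polar Q a b' = 1 by rw [hb', polar_smul_r', inv_mul_cancel₀ hab])
    rw [polar_smul_l', mul_eq_zero] at hbw
    obtain ⟨p, hp, hpu⟩ := hone a ha hQa ha0
    obtain ⟨q, hq, hqu⟩ := hone b hb hQb hb0
    have hw0 : g.1 w ≠ 0 := (map_ne_zero_iff _ g.1.injective).2 fun e => hQw (by rw [e, map_zero])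
    have e1 : p = j := by
      by_contra hne
      have := h.dec.comp_other hne haj
      rw [h.dec.comp_self hp] at this
      exact ha0 (g.1.injective (this.trans (map_zero g.1).symm))
    have e2 : q = p := by
      by_contra hne
      have := h.dec.comp_other hne (hpu w hw haw hQw)
      rw [h.dec.comp_self (hqu w hw (hbw.resolve_left (inv_ne_zero hab)) hQw)] at this
      exact hw0 this
    rwa [← e1, ← e2]
  have hsing : ∀ d ∈ D i, Q d = 0 → g.1 d ∈ D j := by
    intro d hd hQd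
    rcases eq_or_ne d 0 with rfl | hd0
    · simp
    obtain ⟨r, hr, hQr, hr0, hrd⟩ := h.exists_common hd₀ hd₀0 hQd₀ hd hd0
    exact same r d hr hd hQr hQd hrd (same d₀ r hd₀ hr hQd₀ hQr (by rw [polar_comm]; exact hr0) hj)
  obtain ⟨x, hx, hxj⟩ := hi j
  refine hxj ?_
  obtain ⟨f, hf, hdf, hQf⟩ := h.exists_partner hd₀ hd₀0 hQd₀
  set z := x - polar Q f x • d₀ - polar Q d₀ x • f with hz
  have hdz : polar Q d₀ z = 0 := by
    rw [hz, polar_sub_right, polar_sub_right, polar_smul_r', polar_smul_r', polar_self', hQd₀, hdf]; ring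
  have hfz : polar Q f z = 0 := by
    rw [hz, polar_sub_right, polar_sub_right, polar_smul_r', polar_smul_r', polar_comm Q f d₀, hdf, polar_self',
      hQf]; ring
  have hzD : z ∈ D i := (D i).sub_mem ((D i).sub_mem hx ((D i).smul_mem _ hd₀)) ((D i).smul_mem _ hf)
  have hs := hsing (f + z + (-Q z) • d₀) ((D i).add_mem ((D i).add_mem hf hzD) ((D i).smul_mem _ hd₀)) (by
    rw [quad_add', quad_add', hQf, hfz, quad_smul', hQd₀, polar_smul_r', polar_add_left, polar_comm Q f d₀, hdf,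
      polar_comm Q z d₀, hdz]; ring)
  rw [map_add, map_add, map_smul] at hs
  have hgz : g.1 z ∈ D j := by
    have h1 := (D j).sub_mem ((D j).sub_mem hs (hsing f hf hQf)) ((D j).smul_mem (-Q z) hj)
    have e : g.1 f + g.1 z + (-Q z) • g.1 d₀ - g.1 f - (-Q z) • g.1 d₀ = g.1 z := by module
    rwa [e] at h1
  have e : x = z + polar Q f x • d₀ + polar Q d₀ x • f := by rw [hz]; abel
  rw [e, map_add, map_add, map_smul, map_smul]
  exact (D j).add_mem ((D j).add_mem hgz ((D j).smul_mem _ hj)) ((D j).smul_mem _ (hsing f hf hQf))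

end CfsgLib.Classical.OrthDecompMax
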