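import Cfsg.Prelude.Def_GeometricClasses
import Cfsg.Agent.Lib.Classical.OrthMaxPair
import Cfsg.Agent.Lib.Classical.OrthDecompMax.Main
import Cfsg.Agent.Lib.Orth.Similitude

/-!
# Stabilisers of orthogonal decompositions are maximal in `Ω`, odd characteristic, members of dimension at least three
-/

set_option autoImplicit false
set_option linter.unusedSectionVars false

namespace CfsgLib.Classical.OrthDecompMax

open Module QuadraticMap CfsgLib.Orth CfsgLib.Classical
open scoped MatrixGroups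

variable {F : Type*} [Field F] [Fintype F]

section

variable {V : Type*} [AddCommGroup V] [Module F V] [FiniteDimensional F V]
  {Q : QuadraticForm F V} {t k : ℕ} {D : Fin t → Submodule F V}

/-- An element permuting three members cyclically. -/
theorem exists_cycle (hdec : MemberDecomp (QuadraticMap.polarBilin Q) D k)
    (hnd : (QuadraticMap.polarBilin Q).Nondegenerate) (h2 : (2 : F) ≠ 0)
    (hiso : ∀ i j, ∃ e : D i ≃ₗ[F] D j, ∀ x : D i, Q (e x : V) = Q (x : V))
    {i j l : Fin t} (hij : i ≠ j) (hjl : j ≠ l) (hil : i ≠ l) :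
    ∃ e ∈ commutator (orthGroup Q), (∀ x ∈ D i, e.1 x ∈ D j) ∧ (∀ x ∈ D j, e.1 x ∈ D l) ∧
      (∀ x ∈ D l, e.1 x ∈ D i) ∧ ∀ m, m ≠ i → m ≠ j → m ≠ l → ∀ x ∈ D m, e.1 x = x := by
  classical
  obtain ⟨a, ha⟩ := hiso i j
  obtain ⟨b, hb⟩ := hiso j l
  let pr : ∀ m, V →ₗ[F] D m := fun m =>
    (D m).projectionOnto (perp (QuadraticMap.polarBilin Q) (D m)) (hdec.nondeg m).isCompl
  let c : D l ≃ₗ[F] D i := (a.trans b).symm
  let L : V →ₗ[F] V := (D j).subtype ∘ₗ a.toLinearMap ∘ₗ pr i + (D l).subtype ∘ₗ b.toLinearMap ∘ₗ pr j +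
    (D i).subtype ∘ₗ c.toLinearMap ∘ₗ pr l + ∑ m ∈ Finset.univ \ {i, j, l}, hdec.comp m
  have hpr : ∀ {m} {x : V} (hx : x ∈ D m), pr m x = ⟨x, hx⟩ := fun {m x} hx =>
    Submodule.projectionOnto_apply_of_mem_left (hdec.nondeg m).isCompl hx
  have hpr0 : ∀ {m m'} {x : V}, m ≠ m' → x ∈ D m' → pr m x = 0 := fun {m m' x} hne hx =>
    (Submodule.projectionOnto_apply_eq_zero_iff (hdec.nondeg m).isCompl).2
      (mem_perp.2 fun w hw => hdec.orth m m' hne w hw x hx)
  have hsum : ∀ {m'} {x : V}, x ∈ D m' → (∑ m ∈ Finset.univ \ {i, j, l}, hdec.comp m) x =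
      if m' ∈ Finset.univ \ {i, j, l} then x else 0 := fun {m' x} hx => by
    rw [LinearMap.sum_apply]
    split_ifs with hm
    · rw [Finset.sum_eq_single m' (fun m _ hne => hdec.comp_other hne hx) (fun h => absurd hm h), hdec.comp_self hx]
    · exact Finset.sum_eq_zero fun m hm' => hdec.comp_other (fun e : m = m' => hm (e ▸ hm')) hx
  have hi : ∀ x, ∀ hx : x ∈ D i, L x = (a ⟨x, hx⟩ : V) := fun x hx => by
    simp only [L, LinearMap.add_apply, hsum hx]
    simp [hpr hx, hpr0 hij.symm hx, hpr0 hil.symm hx]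
  have hj : ∀ x, ∀ hx : x ∈ D j, L x = (b ⟨x, hx⟩ : V) := fun x hx => by
    simp only [L, LinearMap.add_apply, hsum hx]
    simp [hpr hx, hpr0 hij hx, hpr0 hjl.symm hx]
  have hl : ∀ x, ∀ hx : x ∈ D l, L x = (c ⟨x, hx⟩ : V) := fun x hx => by
    simp only [L, LinearMap.add_apply, hsum hx]
    simp [hpr hx, hpr0 hil hx, hpr0 hjl hx]
  have ho : ∀ m, m ≠ i → m ≠ j → m ≠ l → ∀ x, x ∈ D m → L x = x := fun m h1 h2 h3 x hx => by
    simp only [L, LinearMap.add_apply, hsum hx]
    simp [hpr0 h1.symm hx, hpr0 h2.symm hx, hpr0 h3.symm hx, h1, h2, h3]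
  have h3 : ∀ x, L (L (L x)) = x := by
    intro x
    have hcube : ∀ m, ∀ y ∈ D m, L (L (L y)) = y := by
      intro m y hy
      rcases eq_or_ne m i with rfl | hmi
      · rw [hi y hy, hj _ (a ⟨y, hy⟩).2, hl _ (b ⟨(a ⟨y, hy⟩ : V), (a ⟨y, hy⟩).2⟩).2]
        simp [c]
      rcases eq_or_ne m j with rfl | hmj
      · rw [hj y hy, hl _ (b ⟨y, hy⟩).2, hi _ (c ⟨(b ⟨y, hy⟩ : V), (b ⟨y, hy⟩).2⟩).2]
        simp [c]
      rcases eq_or_ne m l with rfl | hml
      · rw [hl y hy, hi _ (c ⟨y, hy⟩).2, hj _ (a ⟨(c ⟨y, hy⟩ : V), (c ⟨y, hy⟩).2⟩).2]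
        simp [c]
      rw [ho m hmi hmj hml y hy, ho m hmi hmj hml y hy, ho m hmi hmj hml y hy]
    calc L (L (L x)) = L (L (L (∑ m, hdec.comp m x))) := by rw [hdec.sum_comp]
      _ = ∑ m, hdec.comp m x := by
        rw [map_sum, map_sum, map_sum]
        exact Finset.sum_congr rfl fun m _ => hcube m _ (hdec.comp_mem m x)
      _ = x := hdec.sum_comp x
  let σ : Fin t → Fin t := fun m => if m = i then j else if m = j then l else if m = l then i else m
  have hLmem : ∀ m, ∀ y ∈ D m, L y ∈ D (σ m) ∧ Q (L y) = Q y := by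
    intro m y hy
    rcases eq_or_ne m i with rfl | hmi
    · rw [hi y hy]; simp [σ, ha]
    rcases eq_or_ne m j with rfl | hmj
    · rw [hj y hy]; simp [σ, hmi, hb]
    rcases eq_or_ne m l with rfl | hml
    · rw [hl y hy]
      simp only [σ, if_neg hmi, if_neg hmj, if_pos, Submodule.coe_mem, true_and]
      set z := c ⟨y, hy⟩
      have e : b (a z) = ⟨y, hy⟩ := (a.trans b).apply_symm_apply _
      rw [← ha, ← hb, e]
    rw [ho m hmi hmj hml y hy]; simp [σ, hmi, hmj, hml, hy]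
  have hσ : Function.Injective σ := Function.LeftInverse.injective (g := fun m => σ (σ m)) fun m => by
    simp only [σ]
    split_ifs <;> simp_all
  have hQsum : ∀ x, Q x = ∑ m, Q (hdec.comp m x) := fun x => by
    refine mul_left_cancel₀ h2 ?_
    rw [← polar_self', Finset.mul_sum, ← QuadraticMap.polarBilin_apply_apply, hdec.form_eq]
    simp [polar_self']
  have hiso' : ∀ x, Q (L x) = Q x := fun x => by
    rw [hQsum (L x), hQsum x, ← Equiv.sum_comp (Equiv.ofBijective σ (Finite.injective_iff_bijective.1 hσ))]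
    refine Finset.sum_congr rfl fun m _ => ?_
    show Q (hdec.comp (σ m) (L x)) = _
    have e : hdec.comp (σ m) (L x) = L (hdec.comp m x) := by
      conv_lhs => rw [← hdec.sum_comp x, map_sum, map_sum]
      rw [Finset.sum_eq_single m (fun m' _ hne => hdec.comp_other (hσ.ne hne.symm) (hLmem m' _ (hdec.comp_mem m' x)).1)
        (by simp)]
      exact hdec.comp_self (hLmem m _ (hdec.comp_mem m x)).1
    rw [e, (hLmem m _ (hdec.comp_mem m x)).2]
  let g : orthGroup Q := ⟨LinearEquiv.ofLinearMap L (L ∘ₗ L) (LinearMap.ext fun x => h3 x)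
    (LinearMap.ext fun x => h3 x), hiso'⟩
  refine ⟨g, ?_, fun x hx => ?_, fun x hx => ?_, fun x hx => ?_, fun m h1 h2 h4 x hx => ho m h1 h2 h4 x hx⟩
  · have e : g = (g * g) * (g * g) := Subtype.ext (LinearEquiv.ext fun x => by
      show L x = L (L (L (L x)))
      rw [h3])
    rw [e]
    exact sq_mem_commutator hnd (good_of_two_ne h2) (g * g)
  · show L x ∈ D j; rw [hi x hx]; exact Submodule.coe_mem _
  · show L x ∈ D l; rw [hj x hx]; exact Submodule.coe_mem _
  · show L x ∈ D i; rw [hl x hx]; exact Submodule.coe_mem _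


/-- An element mapping a member onto another one and fixing the remaining members pointwise. -/
theorem exists_swap (hdec : MemberDecomp (QuadraticMap.polarBilin Q) D k)
    (hnd : (QuadraticMap.polarBilin Q).Nondegenerate) (h2 : (2 : F) ≠ 0) (hk : 2 ≤ k)
    (hiso : ∀ i j, ∃ e : D i ≃ₗ[F] D j, ∀ x : D i, Q (e x : V) = Q (x : V))
    {i j : Fin t} (hij : i ≠ j) :
    ∃ e ∈ commutator (orthGroup Q), (∀ x ∈ D i, e.1 x ∈ D j) ∧ (∀ x ∈ D j, e.1 x ∈ D i) ∧
      ∀ m, m ≠ i → m ≠ j → ∀ x ∈ D m, e.1 x = x := by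
  classical
  obtain ⟨a, ha⟩ := hiso i j
  let pr : ∀ m, V →ₗ[F] D m := fun m =>
    (D m).projectionOnto (perp (QuadraticMap.polarBilin Q) (D m)) (hdec.nondeg m).isCompl
  let L : V →ₗ[F] V := (D j).subtype ∘ₗ a.toLinearMap ∘ₗ pr i + (D i).subtype ∘ₗ a.symm.toLinearMap ∘ₗ pr j +
    ∑ m ∈ Finset.univ \ {i, j}, hdec.comp m
  have hpr : ∀ {m} {x : V} (hx : x ∈ D m), pr m x = ⟨x, hx⟩ := fun {m x} hx =>
    Submodule.projectionOnto_apply_of_mem_left (hdec.nondeg m).isCompl hx
  have hpr0 : ∀ {m m'} {x : V}, m ≠ m' → x ∈ D m' → pr m x = 0 := fun {m m' x} hne hx =>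
    (Submodule.projectionOnto_apply_eq_zero_iff (hdec.nondeg m).isCompl).2
      (mem_perp.2 fun w hw => hdec.orth m m' hne w hw x hx)
  have hsum : ∀ {m'} {x : V}, x ∈ D m' → (∑ m ∈ Finset.univ \ {i, j}, hdec.comp m) x =
      if m' ∈ Finset.univ \ {i, j} then x else 0 := fun {m' x} hx => by
    rw [LinearMap.sum_apply]
    split_ifs with hm
    · rw [Finset.sum_eq_single m' (fun m _ hne => hdec.comp_other hne hx) (fun h => absurd hm h), hdec.comp_self hx]
    · exact Finset.sum_eq_zero fun m hm' => hdec.comp_other (fun e : m = m' => hm (e ▸ hm')) hx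
  have hi : ∀ x, ∀ hx : x ∈ D i, L x = (a ⟨x, hx⟩ : V) := fun x hx => by
    simp only [L, LinearMap.add_apply, hsum hx]
    simp [hpr hx, hpr0 hij.symm hx]
  have hj : ∀ x, ∀ hx : x ∈ D j, L x = (a.symm ⟨x, hx⟩ : V) := fun x hx => by
    simp only [L, LinearMap.add_apply, hsum hx]
    simp [hpr hx, hpr0 hij hx]
  have ho : ∀ m, m ≠ i → m ≠ j → ∀ x, x ∈ D m → L x = x := fun m h1 h2 x hx => by
    simp only [L, LinearMap.add_apply, hsum hx]
    simp [hpr0 h1.symm hx, hpr0 h2.symm hx, h1, h2]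
  have hsq : ∀ x, L (L x) = x := by
    intro x
    have hcase : ∀ m, ∀ y ∈ D m, L (L y) = y := by
      intro m y hy
      rcases eq_or_ne m i with rfl | hmi
      · rw [hi y hy, hj _ (a ⟨y, hy⟩).2]
        simp
      rcases eq_or_ne m j with rfl | hmj
      · rw [hj y hy, hi _ (a.symm ⟨y, hy⟩).2]
        simp
      rw [ho m hmi hmj y hy, ho m hmi hmj y hy]
    calc L (L x) = L (L (∑ m, hdec.comp m x)) := by rw [hdec.sum_comp]
      _ = ∑ m, hdec.comp m x := by
        rw [map_sum, map_sum]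
        exact Finset.sum_congr rfl fun m _ => hcase m _ (hdec.comp_mem m x)
      _ = x := hdec.sum_comp x
  let σ : Fin t → Fin t := fun m => Equiv.swap i j m
  have hLmem : ∀ m, ∀ y ∈ D m, L y ∈ D (σ m) ∧ Q (L y) = Q y := by
    intro m y hy
    rcases eq_or_ne m i with rfl | hmi
    · rw [hi y hy]; simp [σ, ha]
    rcases eq_or_ne m j with rfl | hmj
    · rw [hj y hy]
      simp only [σ, Equiv.swap_apply_right, Submodule.coe_mem, true_and]
      rw [← ha, a.apply_symm_apply]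
    rw [ho m hmi hmj y hy]; simp [σ, Equiv.swap_apply_of_ne_of_ne hmi hmj, hy]
  have hQsum : ∀ x, Q x = ∑ m, Q (hdec.comp m x) := fun x => by
    refine mul_left_cancel₀ h2 ?_
    rw [← polar_self', Finset.mul_sum, ← QuadraticMap.polarBilin_apply_apply, hdec.form_eq]
    simp [polar_self']
  have hiso' : ∀ x, Q (L x) = Q x := fun x => by
    rw [hQsum (L x), hQsum x, ← Equiv.sum_comp (Equiv.swap i j)]
    refine Finset.sum_congr rfl fun m _ => ?_
    show Q (hdec.comp (σ m) (L x)) = _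
    have e : hdec.comp (σ m) (L x) = L (hdec.comp m x) := by
      conv_lhs => rw [← hdec.sum_comp x, map_sum, map_sum]
      rw [Finset.sum_eq_single m (fun m' _ hne => hdec.comp_other ((Equiv.swap i j).injective.ne hne.symm)
        (hLmem m' _ (hdec.comp_mem m' x)).1) (by simp)]
      exact hdec.comp_self (hLmem m _ (hdec.comp_mem m x)).1
    rw [e, (hLmem m _ (hdec.comp_mem m x)).2]
  let g : orthGroup Q := ⟨LinearEquiv.ofLinearMap L L (LinearMap.ext fun x => hsq x)
    (LinearMap.ext fun x => hsq x), hiso'⟩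
  let S : Subgroup (orthGroup Q) :=
    { carrier := {e | (∀ x ∈ D j, e.1 x ∈ D j) ∧ (∀ x ∈ D j, e⁻¹.1 x ∈ D j) ∧
        ∀ m, m ≠ j → ∀ x ∈ D m, e.1 x = x}
      one_mem' := ⟨fun x hx => hx, fun x hx => by simpa using hx, fun m _ x _ => rfl⟩
      mul_mem' := fun {e e'} he he' => ⟨fun x hx => he.1 _ (he'.1 x hx), fun x hx => by
          rw [mul_inv_rev]; exact he'.2.1 _ (he.2.1 x hx), fun m hm x hx => by
          show e.1 (e'.1 x) = x
          rw [he'.2.2 m hm x hx, he.2.2 m hm x hx]⟩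
      inv_mem' := fun {e} he => ⟨he.2.1, fun x hx => by rw [inv_inv]; exact he.1 x hx, fun m hm x hx =>
        e.1.symm_apply_eq.2 (he.2.2 m hm x hx).symm⟩ }
  obtain ⟨s, hs, hse⟩ := exists_mem_ab_eq hnd (good_of_two_ne h2) S (fun c hc => by
    obtain ⟨b, hb, hQb⟩ := exists_value (Q := Q) (D j) (by
      have hbot : D j ⊓ LinearMap.BilinForm.orthogonal (QuadraticMap.polarBilin Q) (D j) = ⊥ :=
        (Submodule.eq_bot_iff _).2 fun x hx => eq_zero_of_perp hdec hx.1 fun y hy => hx.2 y hy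
      rw [hbot, finrank_bot, hdec.dim]
      omega) (Q c)
    have hmem : ∀ x ∈ D j, (refl Q b).1 x ∈ D j := fun x hx => by
      rw [refl_apply]; exact (D j).sub_mem hx ((D j).smul_mem _ hb)
    refine ⟨refl Q b, ⟨hmem, fun x hx => ?_, fun m hm x hx => refl_fix Q (orth_polar hdec hm.symm hb hx)⟩,
      ab_refl_eq hnd (good_of_two_ne h2) (by rw [hQb]; exact hc) hc (by rw [hQb]; exact ⟨Q c, rfl⟩)⟩
    rw [inv_eq_of_mul_eq_one_right (refl_mul_self Q b)]
    exact hmem x hx) g⁻¹
  refine ⟨s * g, ?_, fun x hx => hs.1 _ ?_, fun x hx => ?_, fun m h1 h2 x hx => ?_⟩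
  · rw [mem_commutator_iff, map_mul, hse, map_inv, inv_mul_cancel]
  · show L x ∈ D j; rw [hi x hx]; exact Submodule.coe_mem _
  · show s.1 (L x) ∈ D i
    have hmem : L x ∈ D i := by rw [hj x hx]; exact Submodule.coe_mem _
    rw [hs.2.2 i hij _ hmem]; exact hmem
  · show s.1 (L x) = x
    rw [ho m h1 h2 x hx]; exact hs.2.2 m h2 x hx

end

variable {ι : Type} [Fintype ι] [DecidableEq ι] {Qf : (ι → F) → F}

theorem omega_isMaximal' {t k : ℕ} {D : Fin t → Submodule F (ι → F)}
    (hQ : Cfsg.Geo.IsNondegenerateQuadraticForm Qf) (h2 : (2 : F) ≠ 0)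
    (hD : Cfsg.Geo.IsOrthogonalMDecomposition Qf k D) (ht : 3 ≤ t)
    (hk : (k = 3 ∧ 5 ≤ Fintype.card F) ∨ 5 ≤ k) :
    Cfsg.Geo.IsMaximalIn (Cfsg.Geo.omegaGL Qf) (Cfsg.Geo.decompositionStabilizer D ⊓ Cfsg.Geo.omegaGL Qf) := by
  classical
  obtain ⟨Q, hQf, hnd⟩ := exists_quadOf hQ
  have hpol : ∀ x y, polar Qf x y = polar Q x y := fun x y => by simp [QuadraticMap.polar, hQf]
  have hdec : MemberDecomp (QuadraticMap.polarBilin Q) D k :=
    ⟨fun i => nondegOn_iff.2 fun x hx hx' => by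
        by_contra hne
        obtain ⟨y, hy, hyx⟩ := (hD.decomp.nondegenerate i x hx hne).1
        exact hyx (by rw [hpol, polar_comm]; exact (polar_comm _ _ _).trans (hx' y hy)),
      fun i j hij u hu v hv => by
        rw [QuadraticMap.polarBilin_apply_apply, ← hpol]; exact hD.decomp.orthogonal i j hij u hu v hv,
      hD.decomp.decomp.iSup_eq_top, hD.decomp.decomp.finrank_eq⟩
  have hiso : ∀ i j, ∃ e : D i ≃ₗ[F] D j, ∀ x : D i, Q (e x : ι → F) = Q (x : ι → F) := fun i j => by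
    obtain ⟨e, he⟩ := hD.isometric i j
    exact ⟨e, fun x => by rw [← hQf, ← hQf]; exact he x⟩
  have hn : 5 ≤ finrank F (ι → F) := by
    have h1 : ∀ i, finrank F (D i) = k := hdec.dim
    let i₀ : Fin t := ⟨0, by omega⟩
    let i₁ : Fin t := ⟨1, by omega⟩
    have hdis : D i₀ ⊓ D i₁ = ⊥ := by
      refine (Submodule.eq_bot_iff _).2 fun x hx => ?_
      have := hdec.comp_other (show i₀ ≠ i₁ by simp [i₀, i₁, Fin.ext_iff]) hx.2
      rwa [hdec.comp_self hx.1] at this
    have h3 := Submodule.finrank_sup_add_finrank_inf_eq (D i₀) (D i₁)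
    rw [hdis, finrank_bot, h1, h1] at h3
    have := (D i₀ ⊔ D i₁).finrank_le
    rcases hk with ⟨rfl, -⟩ | hk <;> omega
  have hsieg : ∀ {d u : ι → F} {g : orthGroup Q}, IsSiegel g d u → g ∈ commutator (orthGroup Q) := fun hg =>
    hg.mem_commutator hnd (good_of_two_ne h2) (exists_hypPairs hnd hn).some hn
  have hsym : ∀ {g : orthGroup Q}, (∀ m, ∃ m', ∀ x ∈ D m, g.1 x ∈ D m') →
      orthToGL Q hQf g ∈ Cfsg.Geo.decompositionStabilizer D := by
    intro g hg
    choose σ hσ using hg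
    have hmap : ∀ m, (D m).map (g.1 : (ι → F) →ₗ[F] (ι → F)) = D (σ m) := fun m => map_eq_of hdec (hσ m)
    have hinj : Function.Injective σ := fun a b hab => by
      by_contra hne
      have e : D a = D b := Submodule.map_injective_of_injective g.1.injective (by rw [hmap, hmap, hab])
      obtain ⟨x, hx, hx0⟩ := Submodule.exists_mem_ne_zero_of_ne_bot (p := D a) fun e0 => by
        have := hdec.dim a
        rw [e0, finrank_bot] at this
        rcases hk with ⟨rfl, -⟩ | hk <;> omega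
      exact hx0 (by rw [← hdec.comp_self hx, hdec.comp_other hne (e ▸ hx)])
    exact (orthToGL_mem_decomp Q hQf D g).2
      ⟨Equiv.ofBijective σ (Finite.injective_iff_bijective.1 hinj), hmap⟩
  have hset : ∀ M : Subgroup (orthGroup Q),
      (∀ y ∈ commutator (orthGroup Q), orthToGL Q hQf y ∈ Cfsg.Geo.decompositionStabilizer D → y ∈ M) →
      Setting Q D k M ∧ SwapIn D M := fun M hM => by
    refine ⟨⟨h2, hnd, hdec, hk, ht, fun i d hd u hu g hg => ?_, fun i j l hij hjl hil => ?_⟩, fun i j hij => ?_⟩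
    · refine hM g (hsieg hg) (hsym fun m => ⟨m, fun x hx => ?_⟩)
      rcases eq_or_ne m i with rfl | hm
      · rw [hg.2.2]; exact (D m).add_mem ((D m).add_mem hx ((D m).smul_mem _ hu)) ((D m).smul_mem _ hd)
      · rw [hg.fix (orth_polar hdec hm.symm hd hx) (orth_polar hdec hm.symm hu hx)]; exact hx
    · obtain ⟨e, he, hei, hej, hel, heo⟩ := exists_cycle hdec hnd h2 hiso hij hjl hil
      refine ⟨e, hM e he (hsym fun m => ?_), hei, hej, hel, heo⟩
      rcases eq_or_ne m i with rfl | hmi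
      · exact ⟨j, hei⟩
      rcases eq_or_ne m j with rfl | hmj
      · exact ⟨l, hej⟩
      rcases eq_or_ne m l with rfl | hml
      · exact ⟨i, hel⟩
      exact ⟨m, fun x hx => by rw [heo m hmi hmj hml x hx]; exact hx⟩
    · obtain ⟨e, he, hei, hej, heo⟩ := exists_swap hdec hnd h2 (by rcases hk with ⟨rfl, -⟩ | hk <;> omega) hiso hij
      refine ⟨e, hM e he (hsym fun m => ?_), hei, heo⟩
      rcases eq_or_ne m i with rfl | hmi
      · exact ⟨j, hei⟩
      rcases eq_or_ne m j with rfl | hmj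
      · exact ⟨i, hej⟩
      exact ⟨m, fun x hx => by rw [heo m hmi hmj x hx]; exact hx⟩
  refine omega_isMaximalIn_inf Q hQf _ ?_ fun M hM g hgM _ hgN => ?_
  · have h := (hset ⊤ fun _ _ _ => trivial).1
    let i₀ : Fin t := ⟨0, by omega⟩
    let i₁ : Fin t := ⟨1, by omega⟩
    have h01 : i₀ ≠ i₁ := by simp [i₀, i₁, Fin.ext_iff]
    obtain ⟨d, hd, hd0, hQd⟩ := h.exists_singular i₀
    obtain ⟨f, hf, hdf, -⟩ := h.exists_partner hd hd0 hQd
    obtain ⟨v, hv, hv0, -⟩ := h.exists_singular i₁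
    obtain ⟨g, hg⟩ := exists_isSiegel hnd hQd (orth_polar hdec h01 hd hv)
    refine ⟨g, hsieg hg, fun hgN => ?_⟩
    obtain ⟨σ, hσ⟩ := (orthToGL_mem_decomp Q hQf D g).1 hgN
    have hmem : g.1 f ∈ D (σ i₀) := (hσ i₀).le ⟨f, hf, rfl⟩
    have hgf : g.1 f = f + v + (-(polar Q v f) - Q v) • d := by rw [hg.2.2, hdf, one_smul, mul_one]
    by_cases hσ0 : σ i₀ = i₀
    · have e := hdec.comp_other (show i₁ ≠ σ i₀ by rw [hσ0]; exact h01.symm) hmem
      rw [hgf, map_add, map_add, map_smul, hdec.comp_other h01.symm hf, hdec.comp_self hv,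
        hdec.comp_other h01.symm hd, smul_zero, zero_add, add_zero] at e
      exact hv0 e
    · have e := hdec.comp_other (Ne.symm hσ0) hmem
      rw [hgf, map_add, map_add, map_smul, hdec.comp_self hf, hdec.comp_other h01 hv, hdec.comp_self hd, add_zero] at e
      have e1 := congrArg (polar Q d) e
      rw [polar_add_right, polar_smul_r', polar_self', hQd, hdf, polar_zero_right, mul_zero, mul_zero, add_zero] at e1
      exact one_ne_zero e1
  · obtain ⟨h, hswp⟩ := hset M hM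
    obtain ⟨i, j, hij, hR⟩ := h.rel_of_not_sym hswp hgM (by
      by_contra hall
      push Not at hall
      exact hgN (hsym hall))
    exact h.omega_le hn hij hR

/-- The same with the number of members at least four when they are three-dimensional. -/
theorem omega_isMaximal {t k : ℕ} {D : Fin t → Submodule F (ι → F)}
    (hQ : Cfsg.Geo.IsNondegenerateQuadraticForm Qf) (h2 : (2 : F) ≠ 0)
    (hD : Cfsg.Geo.IsOrthogonalMDecomposition Qf k D) (ht : 3 ≤ t)
    (hk : (k = 3 ∧ 4 ≤ t ∧ 5 ≤ Fintype.card F) ∨ 5 ≤ k) :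
    Cfsg.Geo.IsMaximalIn (Cfsg.Geo.omegaGL Qf) (Cfsg.Geo.decompositionStabilizer D ⊓ Cfsg.Geo.omegaGL Qf) :=
  omega_isMaximal' hQ h2 hD ht (hk.imp_left fun h => ⟨h.1, h.2.2⟩)

end CfsgLib.Classical.OrthDecompMax

namespace CfsgLib.Classical.OrthDecompMax

open Module

theorem MemberDecomp.finrank_eq {F V : Type*} [Field F] [AddCommGroup V] [Module F V] [FiniteDimensional F V]
    {B : V →ₗ[F] V →ₗ[F] F} {t k : ℕ} {D : Fin t → Submodule F V} (h : MemberDecomp B D k) :
    finrank F V = t * k := by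
  let L : V →ₗ[F] ∀ i, D i := LinearMap.pi fun i => (h.comp i).codRestrict (D i) (h.comp_mem i)
  have hL : Function.Bijective L := by
    refine ⟨fun x y e => h.ext_comp fun i => congrArg Subtype.val (congrFun e i), fun f => ⟨∑ i, (f i : V), ?_⟩⟩
    funext i
    refine Subtype.ext ?_
    show h.comp i (∑ j, (f j : V)) = _
    rw [map_sum, Finset.sum_eq_single i (fun j _ hj => h.comp_other hj.symm (f j).2) (by simp), h.comp_self (f i).2]
  rw [(LinearEquiv.ofBijective L hL).finrank_eq, Module.finrank_pi_fintype]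
  simp [h.dim]

theorem finrank_decomposition {F : Type*} [Field F] {ι : Type} [Fintype ι] [DecidableEq ι] {Qf : (ι → F) → F} {t k : ℕ}
    {D : Fin t → Submodule F (ι → F)} (hQ : Cfsg.Geo.IsNondegenerateQuadraticForm Qf)
    (hD : Cfsg.Geo.IsOrthogonalMDecomposition Qf k D) : Fintype.card ι = t * k := by
  obtain ⟨Q, hQf, hnd⟩ := CfsgLib.Classical.exists_quadOf hQ
  have hpol : ∀ x y, QuadraticMap.polar Qf x y = QuadraticMap.polar Q x y := fun x y => by
    simp [QuadraticMap.polar, hQf]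
  have hdec : MemberDecomp (QuadraticMap.polarBilin Q) D k :=
    ⟨fun i => nondegOn_iff.2 fun x hx hx' => by
        by_contra hne
        obtain ⟨y, hy, hyx⟩ := (hD.decomp.nondegenerate i x hx hne).1
        exact hyx (by rw [hpol]; exact hx' y hy),
      fun i j hij u hu v hv => by
        rw [QuadraticMap.polarBilin_apply_apply, ← hpol]; exact hD.decomp.orthogonal i j hij u hu v hv,
      hD.decomp.decomp.iSup_eq_top, hD.decomp.decomp.finrank_eq⟩
  rw [← Module.finrank_pi (R := F) (ι := ι), hdec.finrank_eq]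

end CfsgLib.Classical.OrthDecompMax
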